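import Groth.Agent.FiltLib.Chain
import Groth.Agent.MonoPtLib.LimAffineSpace
import Groth.Prelude.Def_AlgSpEt

/-! Induction principles on spaces étale over a given one. -/

set_option autoImplicit false
set_option backward.isDefEq.respectTransparency false
set_option backward.isDefEq.respectTransparency.types false

universe u

open CategoryTheory CategoryTheory.Limits AlgebraicGeometry Opposite AlgSp AlgSpLib Topology TopologicalSpace

noncomputable section

namespace FiltLib

variable {S : Scheme.{u}} {X : AlgSp.Space S}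

/-- The object given by a space étale over an object. -/
def objOf (W : EtSpOver X) {U : AlgSp.Space S} (j : U ⟶ W.obj.left) (hj : IsEtaleMor j.hom) : EtSpOver X :=
  ⟨Over.mk (j ≫ W.obj.hom), isEtaleMor_comp W.property hj⟩

/-- Its structure morphism. -/
def homOf (W : EtSpOver X) {U : AlgSp.Space S} (j : U ⟶ W.obj.left) (hj : IsEtaleMor j.hom) :
    objOf W j hj ⟶ W :=
  ObjectProperty.homMk (Over.homMk j rfl)

/-- An étale map from a scheme which is bijective on geometric points is an isomorphism. -/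
theorem isIso_of_injOver_univ {F : Sp S} (hF : IsAlgSpace F) {V : Over S} {g : (yon S).obj V ⟶ F}
    (hg : RepWith @Etale g) (hs : Function.Surjective (Points.ofPt g)) (hi : InjOver g Set.univ) : IsIso g :=
  isIso_fst_of_injOver hF (i := 𝟙 F) (repWith_of_isIso _) hg (Set.subset_univ _) hi
    (fun y _ => hs y) (fst := g) (snd := 𝟙 _) (IsPullback.of_vert_isIso ⟨by simp⟩)

theorem isQuasiSeparatedSp_of_mono {F G : Sp S} (j : F ⟶ G) [Mono j] (hG : IsQuasiSeparatedSp G) :
    IsQuasiSeparatedSp F :=
  isQuasiSeparatedSp_of_mor (f := j) (repWith_of_isIso (pullback.diagonal j)) hG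

theorem exists_empty_iso (W : EtSpOver X) (h : IsEmpty (Points W.obj.left.obj)) :
    ∃ T : Over S, IsAffine T.left ∧ Nonempty ((yon S).obj T ≅ W.obj.left.obj) := by
  obtain ⟨V, g, hV, hg, -, -, hi⟩ := exists_empty_chart W.obj.left.property
  haveI := isIso_of_injOver_univ W.obj.left.property hg (fun y => isEmptyElim y) (hi _)
  exact ⟨V, hV, ⟨asIso g⟩⟩

variable (B P : EtSpOver X → Prop)
  (h1 : ∀ W, B W → IsQuasiCompactSp W.obj.left.obj ∧ IsQuasiSeparatedSp W.obj.left.obj)
  (h2 : ∀ (W U : EtSpOver X) (j : U ⟶ W), B W → RepWith @IsOpenImmersion j.hom.left.hom →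
    IsQuasiCompactSp U.obj.left.obj → B U)
  (h3 : ∀ (V : EtSpOver X) (T : Over S), IsAffine T.left →
    Nonempty ((yon S).obj T ≅ V.obj.left.obj) → B V ∧ P V)
  (h4 : ∀ (W U V UV : EtSpOver X) (j : U ⟶ W) (f : V ⟶ W) (p : UV ⟶ U) (q : UV ⟶ V),
    B W → IsQuasiCompactSp U.obj.left.obj →
    (∃ T : Over S, IsAffine T.left ∧ Nonempty ((yon S).obj T ≅ V.obj.left.obj)) →
    IsElemDistSq j.hom.left.hom f.hom.left.hom →
    IsPullback p.hom.left.hom q.hom.left.hom j.hom.left.hom f.hom.left.hom →
    P U → P V → P UV → P W)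

include h3 h4 in
/-- The step: glue an affine object. The hypothesis `hUV` deals with the intersection. -/
theorem step_P {E W : EtSpOver X} (j : W ⟶ E) (hj : RepWith @IsOpenImmersion j.hom.left.hom) (hBW : B W)
    {V : Over S} [IsAffine V.left] (g : (yon S).obj V ⟶ E.obj.left.obj) (hg : RepWith @Etale g)
    {O₁ : Set (Points E.obj.left.obj)} (hO : IsOpen O₁) (hc : IsCompact O₁)
    (hr : O₁ ∪ Set.range (Points.ofPt g) = Set.range (Points.map j.hom.left.hom))
    (hinj : InjOver g O₁ᶜ)
    (hU : ∀ (U : EtSpOver X) (i : U ⟶ E), RepWith @IsOpenImmersion i.hom.left.hom →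
      Set.range (Points.map i.hom.left.hom) = O₁ → P U)
    (hUV : ∀ (V' UV : EtSpOver X) (e : (yon S).obj V ≅ V'.obj.left.obj) (f : V' ⟶ W) (q : UV ⟶ V'),
      e.hom ≫ (f.hom.left.hom ≫ j.hom.left.hom) = g → RepWith @IsOpenImmersion q.hom.left.hom →
      Set.range (Points.map q.hom.left.hom) = Points.map (f.hom.left.hom ≫ j.hom.left.hom) ⁻¹' O₁ → P UV) :
    P W := by
  let W₁ : AlgSp.Space S := openSpace E.obj.left O₁ hO
  let j₁ : W₁ ⟶ E.obj.left := openSpaceι E.obj.left O₁ hO
  have hj₁ : RepWith @IsOpenImmersion j₁.hom := repWith_openSpaceι E.obj.left hO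
  have hr₁ : Set.range (Points.map j₁.hom) = O₁ := range_openSpaceι E.obj.left hO
  obtain ⟨k, f, hk, hf, hsq⟩ := exists_step j₁ j.hom.left hj₁ hj g hg (by rw [hr₁]; exact hr)
    (by rw [hr₁]; exact hinj)
  have hkE : IsEtaleMor k.hom := isEtaleMor_of_openImmersion hsq.1
  let U : EtSpOver X := objOf W k hkE
  let V' : EtSpOver X := objOf W f hsq.2.1
  let i : U ⟶ E := homOf W k hkE ≫ j
  have hi : i.hom.left.hom = j₁.hom := congrArg (fun φ => φ.hom) hk
  have hsqP := IsPullback.of_hasPullback k.hom f.hom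
  let Z : AlgSp.Space S := ⟨pullback k.hom f.hom, isAlgSpace_pullback W₁.property (IsAlgSpace.yon_obj V)
    W.obj.left.property k.hom f.hom⟩
  let q₀ : Z ⟶ (⟨(yon S).obj V, IsAlgSpace.yon_obj V⟩ : AlgSp.Space S) :=
    ObjectProperty.homMk (pullback.snd k.hom f.hom)
  have hq : RepWith @IsOpenImmersion q₀.hom := repWith_of_isPullback hsqP hsq.1
  let UV : EtSpOver X := objOf V' q₀ (isEtaleMor_of_openImmersion hq)
  let p₀ : Z ⟶ W₁ := ObjectProperty.homMk (pullback.fst k.hom f.hom)
  have hw : p₀ ≫ k = q₀ ≫ f := ObjectProperty.hom_ext _ pullback.condition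
  let p : UV ⟶ U := ObjectProperty.homMk (Over.homMk p₀ (by
    show p₀ ≫ k ≫ W.obj.hom = q₀ ≫ f ≫ W.obj.hom
    rw [← Category.assoc, hw, Category.assoc]))
  refine h4 W U V' UV (homOf W k hkE) (homOf W f hsq.2.1) p (homOf V' q₀ (isEtaleMor_of_openImmersion hq)) hBW
    (isQuasiCompactSp_of_isCompact_range W₁.property hj₁ (by rw [hr₁]; exact hc))
    ⟨V, inferInstance, ⟨Iso.refl _⟩⟩ hsq hsqP (hU U i (by rw [hi]; exact hj₁) (by rw [hi]; exact hr₁))
    (h3 V' V inferInstance ⟨Iso.refl _⟩).2
    (hUV V' UV (Iso.refl _) (homOf W f hsq.2.1) (homOf V' q₀ (isEtaleMor_of_openImmersion hq))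
      ((Category.id_comp _).trans hf) hq ?_)
  show Set.range (Points.map (pullback.snd k.hom f.hom)) = Points.map (f.hom ≫ j.hom.left.hom) ⁻¹' O₁
  rw [range_map_of_isPullback hsqP]
  haveI := mono_of_openImmersion hj
  ext x
  simp only [Set.mem_preimage, Points.map_comp]
  constructor
  · rintro ⟨z, hz⟩
    rw [← hz, ← Points.map_comp, ← ObjectProperty.FullSubcategory.comp_hom, hk, ← hr₁]
    exact ⟨z, rfl⟩
  · intro hx
    obtain ⟨z, hz⟩ := hr₁.symm.subset hx
    exact ⟨z, injective_map_of_mono j.hom.left.hom (by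
      rw [← Points.map_comp, ← ObjectProperty.FullSubcategory.comp_hom, hk, hz])⟩

include h2 h3 h4 in
/-- Quasi-compact open subobjects of affine objects. -/
theorem P_of_open_in_affine {V : EtSpOver X} {T : Over S} [IsAffine T.left] (e : (yon S).obj T ≅ V.obj.left.obj)
    (n : ℕ) : ∀ (A : Fin n → T.left.Opens), (∀ i, IsAffineOpen (A i)) → ∀ (U : EtSpOver X) (j : U ⟶ V),
      RepWith @IsOpenImmersion j.hom.left.hom →
      Set.range (Points.map j.hom.left.hom) = Points.ofPt e.hom '' ⋃ i, (A i : Set T.left) → P U := by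
  have heE : RepWith @Etale e.hom := repWith_of_isIso e.hom
  have hei : InjOver e.hom Set.univ := fun Ω _ _ str x y h _ =>
    (yon S).map_injective ((cancel_mono e.hom).1 h)
  induction n with
  | zero =>
    intro A hA U j hj hr
    have : IsEmpty (Points U.obj.left.obj) := ⟨fun y => by
      have h : Points.map j.hom.left.hom y ∈ Points.ofPt e.hom '' ⋃ i, (A i : Set T.left) := hr ▸ ⟨y, rfl⟩
      simp at h⟩
    obtain ⟨T', hT', hT''⟩ := exists_empty_iso U this
    exact (h3 U T' hT' hT'').2
  | succ n ih =>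
    intro A hA U j hj hr
    obtain ⟨V₀, g, hV₀, hg, hrg, hgi, hgo⟩ := exists_affine_restrict heE hei (A 0) (hA 0)
    haveI := hV₀
    have hunion : (⋃ i, (A i : Set T.left)) = (A 0 : Set T.left) ∪ ⋃ i : Fin n, (A i.succ : Set T.left) := by
      ext y
      simp only [Set.mem_iUnion, Set.mem_union, Fin.exists_fin_succ]
    have hBU : B U := h2 V U j (h3 V T inferInstance ⟨e⟩).1 hj (isQuasiCompactSp_of_isCompact_range
      U.obj.left.property hj (hr ▸ (isCompact_iUnion fun i => (hA i).isCompact).image (Points.continuous_ofPt _)))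
    refine step_P B P h3 h4 j hj hBU g hg
      (O₁ := Points.ofPt e.hom '' ⋃ i : Fin n, (A i.succ : Set T.left))
      (isOpenMap_ofPt heE _ (isOpen_iUnion fun i => (A i.succ).2))
      ((isCompact_iUnion fun i : Fin n => (hA i.succ).isCompact).image (Points.continuous_ofPt _)) ?_
      (hgi.mono (Set.subset_univ _)) (fun U' i hi hr' => ih _ (fun k => hA k.succ) U' i hi hr')
      (fun V' UV e' f q he hq hrq => ?_)
    · rw [hr, hrg, hunion, Set.image_union, Set.union_comm]
    · let l : V' ⟶ V := f ≫ j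
      have hgl : e'.hom ≫ l.hom.left.hom = g := he
      have hlo : RepWith @IsOpenImmersion l.hom.left.hom := by
        rw [← Iso.inv_hom_id_assoc e' l.hom.left.hom, hgl]
        exact repWith_comp (repWith_of_isIso e'.inv) (hgo (repWith_of_isIso e.hom))
      have hrl : Set.range (Points.map l.hom.left.hom) = Points.ofPt e.hom '' (A 0 : Set T.left) := by
        rw [← hrg, range_ofPt, ← hgl, show Points.map (e'.hom ≫ l.hom.left.hom) =
          Points.map l.hom.left.hom ∘ Points.map e'.hom from funext (Points.map_comp _ _), Set.range_comp,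
          (isHomeomorph_map_of_isIso e'.hom).surjective.range_eq, Set.image_univ]
      refine ih (fun i => A 0 ⊓ A i.succ) (fun i => (hA 0).inf (hA i.succ)) UV (q ≫ l) (repWith_comp hq hlo) ?_
      show Set.range (Points.map (q.hom.left.hom ≫ l.hom.left.hom)) = _
      rw [show Points.map (q.hom.left.hom ≫ l.hom.left.hom) =
          Points.map l.hom.left.hom ∘ Points.map q.hom.left.hom from funext (Points.map_comp _ _), Set.range_comp]
      have hinje : Function.Injective (Points.ofPt e.hom) := fun x y hxy =>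
        (Points.schemeHomeo T).injective (injective_map_of_mono e.hom (by
          rw [ofPt_comp_ofScheme] at hxy; exact hxy))
      rw [hrq, show f.hom.left.hom ≫ j.hom.left.hom = l.hom.left.hom from rfl, Set.image_preimage_eq_inter_range,
        hrl, ← Set.image_inter hinje, Set.inter_comm, Set.inter_iUnion]
      rfl

include h1 h2 h3 h4 in
/-- The induction principle for a family of objects. -/
theorem induction_family [QuasiSeparatedSpace ↥S] (W : EtSpOver X) (hW : B W) : P W := by
  suffices H : ∀ (W' : EtSpOver X) (j : W' ⟶ W), RepWith @IsOpenImmersion j.hom.left.hom →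
      Set.range (Points.map j.hom.left.hom) = Set.univ → P W' by
    refine H W (𝟙 W) (repWith_of_isIso (𝟙 W.obj.left.obj)) (Set.range_eq_univ.2 fun x => ⟨x, ?_⟩)
    exact Points.map_id x
  obtain ⟨hWc, hWs⟩ := h1 W hW
  refine open_induction W.obj.left.property hWc hWs
    (fun O => ∀ (W' : EtSpOver X) (j : W' ⟶ W), RepWith @IsOpenImmersion j.hom.left.hom →
      Set.range (Points.map j.hom.left.hom) = O → P W') ∅ isOpen_empty isCompact_empty ?_ ?_
  · intro W' j hj hr
    have : IsEmpty (Points W'.obj.left.obj) := ⟨fun y => (Set.eq_empty_iff_forall_notMem.1 hr) _ ⟨y, rfl⟩⟩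
    obtain ⟨T, hT, hT'⟩ := exists_empty_iso W' this
    exact (h3 W' T hT hT').2
  · intro O₁ V g hO hc _ hV hg hgi hQ W' j hj hr
    haveI := hV
    have hcW : IsQuasiCompactSp W'.obj.left.obj := isQuasiCompactSp_of_isCompact_range W'.obj.left.property hj
      (hr ▸ hc.union (isCompact_range (Points.continuous_ofPt g)))
    refine step_P B P h3 h4 j hj (h2 W W' j hW hj hcW) g hg hO hc hr.symm hgi hQ fun V' UV e f q he hq hrq => ?_
    have hqc : IsQuasiCompactMor (f.hom.left.hom ≫ j.hom.left.hom) :=
      isQuasiCompactMor_of_qcSp_qsSp V'.obj.left.property W.obj.left.property _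
        (isQuasiCompactSp_of_surjective V'.obj.left.property (f := e.hom)
          (isHomeomorph_map_of_isIso e.hom).surjective (isQuasiCompactSp_yon V)) hWs
    have hcomp : IsCompact (Set.range (Points.map q.hom.left.hom)) := by
      rw [hrq]; exact isCompact_preimage W.obj.left.property hqc hO hc
    have hopen : IsOpen (Points.ofPt e.hom ⁻¹' Set.range (Points.map q.hom.left.hom)) :=
      (isOpen_range_of_openImmersion UV.obj.left.property hq).preimage (Points.continuous_ofPt _)
    have hh : IsHomeomorph (Points.ofPt e.hom) := by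
      rw [ofPt_comp_ofScheme]
      exact (isHomeomorph_map_of_isIso e.hom).comp (Points.schemeHomeo V).isHomeomorph
    obtain ⟨n, A, hA, hcov⟩ := exists_affine_family hopen
      (hh.homeomorph.isCompact_preimage.2 hcomp)
    exact P_of_open_in_affine B P h2 h3 h4 e n A hA UV q hq
      (by rw [hcov, Set.image_preimage_eq _ hh.surjective])

end FiltLib
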