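import Groth.Agent.FiltLib.Open

/-! Induction over the open subspaces of a quasi-compact quasi-separated space. -/

set_option autoImplicit false
set_option backward.isDefEq.respectTransparency false
set_option backward.isDefEq.respectTransparency.types false

universe u

open CategoryTheory CategoryTheory.Limits AlgebraicGeometry Opposite AlgSp AlgSpLib Topology TopologicalSpace

noncomputable section

namespace FiltLib

variable {S : Scheme.{u}}

/-- A finite family of affine opens covering a quasi-compact open. -/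
theorem exists_affine_family {M : Scheme.{u}} {O : Set M} (hO : IsOpen O) (hc : IsCompact O) :
    ∃ (n : ℕ) (A : Fin n → M.Opens), (∀ i, IsAffineOpen (A i)) ∧ (⋃ i, (A i : Set M)) = O := by
  classical
  choose W hW hxW hWO using fun x : O =>
    exists_isAffineOpen_mem_and_subset (X := M) (x := (x : M)) (U := ⟨O, hO⟩) x.2
  obtain ⟨F, hF⟩ := hc.elim_finite_subcover (fun x => (W x : Set M)) (fun x => (W x).2)
    (fun x hx => Set.mem_iUnion.2 ⟨⟨x, hx⟩, hxW _⟩)
  refine ⟨F.card, fun i => W (F.equivFin.symm i), fun i => hW _, subset_antisymm ?_ ?_⟩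
  · exact Set.iUnion_subset fun i => hWO _
  · intro y hy
    obtain ⟨x, hx, hyx⟩ := Set.mem_iUnion₂.1 (hF hy)
    exact Set.mem_iUnion.2 ⟨F.equivFin ⟨x, hx⟩, by simpa using hyx⟩

/-- An empty affine chart. -/
theorem exists_empty_chart {X : Sp S} (hX : IsAlgSpace X) :
    ∃ (V : Over S) (g : (yon S).obj V ⟶ X), IsAffine V.left ∧ RepWith @Etale g ∧
      Set.range (Points.ofPt g) = ∅ ∧ IsEmpty ↥V.left ∧ ∀ Z, InjOver g Z := by
  obtain ⟨U, a, ha, -⟩ := hX.atlas
  let V : Over S := Over.mk (Scheme.emptyTo U.left ≫ U.hom)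
  let ι : V ⟶ U := Over.homMk (Scheme.emptyTo U.left) rfl
  haveI : IsEmpty ↥V.left := inferInstanceAs (IsEmpty (∅ : Scheme.{u}))
  refine ⟨V, (yon S).map ι ≫ a, inferInstanceAs (IsAffine (∅ : Scheme.{u})), repWith_comp
    ((repWith_yon_map_iff (P := (@Etale : MorphismProperty Scheme.{u})) ι).2
      (inferInstanceAs (Etale (Scheme.emptyTo U.left)))) ha, Set.range_eq_empty _, inferInstance,
    fun Z Ω _ _ str x y _ _ => isEmptyElim (x.left (IsLocalRing.closedPoint Ω))⟩

/-- The inclusion of an affine open of a chart. -/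
theorem exists_affine_restrict {X : Sp S} {M : Over S} {f : (yon S).obj M ⟶ X} (hf : RepWith @Etale f)
    {Z : Set (Points X)} (hinj : InjOver f Z) (A : M.left.Opens) (hA : IsAffineOpen A) :
    ∃ (V : Over S) (g : (yon S).obj V ⟶ X), IsAffine V.left ∧ RepWith @Etale g ∧
      Set.range (Points.ofPt g) = Points.ofPt f '' A ∧ InjOver g Z ∧
      (RepWith @IsOpenImmersion f → RepWith @IsOpenImmersion g) := by
  let V : Over S := Over.mk (A.ι ≫ M.hom)
  let ι : V ⟶ M := Over.homMk A.ι rfl
  haveI : Mono ι := (Over.forget S).mono_of_mono_map (inferInstanceAs (Mono A.ι))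
  refine ⟨V, (yon S).map ι ≫ f, hA, repWith_comp
    ((repWith_yon_map_iff (P := (@Etale : MorphismProperty Scheme.{u})) ι).2
      (inferInstanceAs (Etale A.ι))) hf, ?_, hinj.comp ι, fun hfo => repWith_comp
    ((repWith_yon_map_iff (P := (@IsOpenImmersion : MorphismProperty Scheme.{u})) ι).2
      (inferInstanceAs (IsOpenImmersion A.ι))) hfo⟩
  ext x
  constructor
  · rintro ⟨v, rfl⟩
    exact ⟨A.ι v, v.2, (ofPt_yon_comp ι f v).symm⟩
  · rintro ⟨m, hm, rfl⟩
    exact ⟨⟨m, hm⟩, ofPt_yon_comp ι f _⟩

/-- Induction over the open subspaces of a quasi-compact quasi-separated space. -/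
theorem open_induction [QuasiSeparatedSpace ↥S] {X : Sp S} (hX : IsAlgSpace X) (hXc : IsQuasiCompactSp X)
    (hXs : IsQuasiSeparatedSp X) (Q : Set (Points X) → Prop) (O₀ : Set (Points X)) (h₀ : IsOpen O₀)
    (hc₀ : IsCompact O₀) (base : Q O₀)
    (step : ∀ (O₁ : Set (Points X)) (V : Over S) (g : (yon S).obj V ⟶ X), IsOpen O₁ → IsCompact O₁ → O₀ ⊆ O₁ →
      IsAffine V.left → RepWith @Etale g → InjOver g O₁ᶜ → Q O₁ → Q (O₁ ∪ Set.range (Points.ofPt g))) :
    Q Set.univ := by
  obtain ⟨U, a, hU, ha, has⟩ := exists_affine_chart hXc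
  haveI := hU
  obtain ⟨R, t, s, sq⟩ := exists_isPullback_yon a a ha.rep
  haveI := compactSpace_rel hXs sq
  haveI : Etale t.left := etale_left (repWith_of_isPullback sq.flip ha)
  haveI := SpectralQuot.isSeparated_t sq
  haveI : QuasiCompact t.left := quasiCompact_of_compactSpace _
  obtain ⟨n, hn⟩ := exists_strata_empty sq ha
  suffices H : ∀ k p, k + p = n + 1 → Q (O₀ ∪ strata a t p) by
    have := H (n + 1) 0 rfl
    rwa [strata_zero sq has, Set.union_univ] at this
  intro k
  induction k with
  | zero =>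
    intro p hp
    rw [show p = n + 1 by omega, hn, Set.union_empty]
    exact base
  | succ k ih =>
    intro p hp
    rcases p.eq_zero_or_pos with rfl | hpos
    · rw [strata_zero sq has, ← strata_one sq has]
      exact ih 1 (by omega)
    obtain ⟨m, rfl⟩ : ∃ m, p = m + 1 := ⟨p - 1, by omega⟩
    obtain ⟨M, f, -, hf, hrf, hinj, hMc⟩ := exists_stratum_chart sq ha hX m
    haveI := hMc inferInstance
    obtain ⟨N, A, hA, hAcov⟩ := exists_affine_family (M := M.left) isOpen_univ isCompact_univ
    have hB : IsOpen (O₀ ∪ strata a t (m + 2)) := h₀.union (isOpen_strata sq ha _)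
    have hBc : IsCompact (O₀ ∪ strata a t (m + 2)) :=
      hc₀.union ((SpectralQuot.isCompact_atLeast t.left (m + 2)).image (Points.continuous_ofPt a))
    suffices H : ∀ F : Finset (Fin N),
        IsOpen ((O₀ ∪ strata a t (m + 2)) ∪ ⋃ i ∈ F, Points.ofPt f '' A i) ∧
        IsCompact ((O₀ ∪ strata a t (m + 2)) ∪ ⋃ i ∈ F, Points.ofPt f '' A i) ∧
        Q ((O₀ ∪ strata a t (m + 2)) ∪ ⋃ i ∈ F, Points.ofPt f '' A i) by
      have h := (H Finset.univ).2.2
      rwa [show (⋃ i ∈ (Finset.univ : Finset (Fin N)), Points.ofPt f '' (A i : Set M.left)) = strata a t (m + 1) by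
        simp only [Finset.mem_univ, Set.iUnion_true, ← Set.image_iUnion, hAcov, Set.image_univ, hrf],
        Set.union_assoc, Set.union_eq_self_of_subset_left (strata_succ_subset (m + 1))] at h
    classical
    intro F
    induction F using Finset.induction_on with
    | empty =>
      simp only [Finset.notMem_empty, Set.iUnion_false, Set.iUnion_empty, Set.union_empty]
      exact ⟨hB, hBc, ih (m + 2) (by omega)⟩
    | insert i F hi h =>
      rw [Finset.set_biUnion_insert, Set.union_comm (Points.ofPt f '' (A i : Set M.left)), ← Set.union_assoc]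
      refine ⟨h.1.union (isOpenMap_ofPt hf _ (A i).2),
        h.2.1.union ((hA i).isCompact.image (Points.continuous_ofPt f)), ?_⟩
      obtain ⟨V, g, hV, hg, hrg, hgi, -⟩ := exists_affine_restrict hf hinj (A i) (hA i)
      rw [← hrg]
      exact step _ V g h.1 h.2.1 (Set.subset_union_left.trans Set.subset_union_left) hV hg
        (hgi.mono (Set.compl_subset_compl.2 (Set.subset_union_right.trans Set.subset_union_left))) h.2.2

end FiltLib
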