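import Groth.Agent.FiltLib.Open
import Groth.Prelude.Def_AlgSpDec

/-! Elementary étale neighbourhoods from charts injective over a set. -/

set_option autoImplicit false
set_option backward.isDefEq.respectTransparency false
set_option backward.isDefEq.respectTransparency.types false

universe u

open CategoryTheory CategoryTheory.Limits AlgebraicGeometry Opposite AlgSp AlgSpLib Topology TopologicalSpace

noncomputable section

namespace FiltLib

variable {S : Scheme.{u}} {X : Sp S} {V : Over S} {g : (yon S).obj V ⟶ X} {Z : Set (Points X)}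

/-- Two points of `V` over a point of `Z` are equal. -/
theorem eq_of_injOver (hg : RepWith @Etale g) (hinj : InjOver g Z) {u v : V.left}
    (e : Points.ofPt g u = Points.ofPt g v) (hu : Points.ofPt g u ∈ Z) : u = v := by
  obtain ⟨E, e₁, e₂, sq⟩ := exists_isPullback_yon g g hg.rep
  obtain ⟨w, rfl, rfl⟩ := (ofPt_eq_ofPt_iff sq u v).1 e
  obtain ⟨Ω, i₁, i₂, x, rfl⟩ := SpectralQuot.exists_geomPoint w
  let x' : Over.mk (x ≫ E.hom) ⟶ E := Over.homMk x rfl
  have h := hinj Ω _ (x' ≫ e₁) (x' ≫ e₂)
    (by rw [Functor.map_comp, Functor.map_comp, Category.assoc, Category.assoc, sq.w]) hu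
  exact congrArg (fun φ : Over.mk (x ≫ E.hom) ⟶ V => φ.left (IsLocalRing.closedPoint Ω)) h

/-- A point over which the chart is injective on geometric points gives an elementary neighbourhood. -/
theorem isElemEtaleNbhd_of_injOver [V.left.IsSeparated] (hg : RepWith @Etale g) (hinj : InjOver g Z)
    {u : V.left} (hu : Points.ofPt g u ∈ Z) : IsElemEtaleNbhd g u (Points.ofPt g u) := by
  refine ⟨hg, rfl, ?_⟩
  obtain ⟨E, e₁, e₂, sq⟩ := exists_isPullback_yon g g hg.rep
  haveI : Etale e₁.left := etale_left (repWith_of_isPullback sq.flip hg)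
  haveI : IsSeparated e₁.left := isSeparated_fst sq
  obtain ⟨Δ, hΔ₁, hΔ₂⟩ := exists_lift sq (𝟙 V) (𝟙 V) rfl
  haveI : IsOpenImmersion Δ.left := (section_props e₁.left Δ.left (congrArg CommaMorphism.left hΔ₁)).2
  let p := FieldPt.ofPt g u
  let jq : p.pt ⟶ V := Over.homMk (V.left.fromSpecResidueField u) rfl
  have hjq : p.toHom = (yon S).map jq ≫ g := FieldPt.toHom_ofPt g u
  have hju : ∀ z, jq.left z = u := fun z => Scheme.fromSpecResidueField_apply _ z
  haveI : Mono jq := (Over.forget S).mono_of_mono_map (inferInstanceAs (Mono (V.left.fromSpecResidueField u)))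
  have key : ∀ (T : Over S) (b c : T ⟶ p.pt), (yon S).map b ≫ p.toHom = (yon S).map c ≫ p.toHom → b = c := by
    intro T b c h
    rw [← cancel_mono jq]
    obtain ⟨l, hl₁, hl₂⟩ := exists_lift sq (b ≫ jq) (c ≫ jq) (by
      rw [Functor.map_comp, Functor.map_comp, Category.assoc, Category.assoc, ← hjq, h])
    have hsub : Set.range l.left ⊆ Set.range Δ.left := by
      rintro _ ⟨z, rfl⟩
      obtain ⟨Ω, i₁, i₂, x, rfl⟩ := SpectralQuot.exists_geomPoint z
      let x' : Over.mk (x ≫ T.hom) ⟶ T := Over.homMk x rfl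
      have hpt : Points.ofPt g ((x' ≫ b ≫ jq).left (IsLocalRing.closedPoint Ω)) ∈ Z := by
        rw [Over.comp_left, Over.comp_left, Scheme.Hom.comp_apply, Scheme.Hom.comp_apply, hju]
        exact hu
      have he : x' ≫ b ≫ jq = x' ≫ c ≫ jq := hinj Ω _ _ _ (by
        rw [Functor.map_comp (yon S) x' (b ≫ jq), Functor.map_comp (yon S) x' (c ≫ jq), ← hl₁, ← hl₂,
          Functor.map_comp, Functor.map_comp, Category.assoc, Category.assoc, Category.assoc, Category.assoc, sq.w])
        hpt
      have e : x' ≫ l = (x' ≫ b ≫ jq) ≫ Δ := ext_of_isPullback sq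
        (by rw [Category.assoc, hl₁, Category.assoc _ Δ, hΔ₁, Category.comp_id])
        (by rw [Category.assoc, hl₂, Category.assoc _ Δ, hΔ₂, Category.comp_id, he])
      refine ⟨(x' ≫ b ≫ jq).left (IsLocalRing.closedPoint Ω), ?_⟩
      exact (congrArg (fun φ : Over.mk (x ≫ T.hom) ⟶ E => φ.left (IsLocalRing.closedPoint Ω)) e).symm
    let k : T ⟶ V := Over.homMk (IsOpenImmersion.lift Δ.left l.left hsub) (by
      rw [← Over.w Δ, IsOpenImmersion.lift_fac_assoc, Over.w l])
    have hk : k ≫ Δ = l := Over.OverMorphism.ext (IsOpenImmersion.lift_fac _ _ _)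
    rw [← hl₁, ← hl₂, ← hk, Category.assoc, Category.assoc, hΔ₁, hΔ₂]
  refine ⟨fun {W} b c h => ?_⟩
  apply GrothendieckTopology.hom_ext_uliftYoneda.{u + 1} (AlgSp.J S)
  intro T w
  obtain ⟨b', hb'⟩ := (yon S).map_surjective (w ≫ b)
  obtain ⟨c', hc'⟩ := (yon S).map_surjective (w ≫ c)
  exact hb'.symm.trans ((congrArg (yon S).map (key T b' c' (by
    rw [hb', hc', Category.assoc, Category.assoc, h]))).trans hc')

end FiltLib
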