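import Groth.Agent.FiltLib.Strata
import Groth.Agent.AlgSpLib.QcQs
import Groth.Agent.AlgSpLib.Qc
import Groth.Agent.SpectralQuot.DenseScheme
import Groth.Agent.ProConsLib.Top

/-! Open subspaces, the step of the induction, and bounds on the strata. -/

set_option autoImplicit false
set_option backward.isDefEq.respectTransparency false
set_option backward.isDefEq.respectTransparency.types false

universe u

open CategoryTheory CategoryTheory.Limits AlgebraicGeometry Opposite AlgSp AlgSpLib Topology TopologicalSpace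

noncomputable section

namespace FiltLib

variable {S : Scheme.{u}}

/-- The open subspace with given points. -/
def openSpace (X : AlgSp.Space S) (O : Set (Points X.obj)) (hO : IsOpen O) : AlgSp.Space S :=
  ⟨openSub X.obj O, isAlgSpace_openSub X.property hO⟩

/-- Its inclusion. -/
def openSpaceι (X : AlgSp.Space S) (O : Set (Points X.obj)) (hO : IsOpen O) : openSpace X O hO ⟶ X :=
  ObjectProperty.homMk (openSubι X.obj O)

theorem repWith_openSpaceι (X : AlgSp.Space S) {O : Set (Points X.obj)} (hO : IsOpen O) :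
    RepWith @IsOpenImmersion (openSpaceι X O hO).hom := repWith_openSubι _ hO

theorem range_openSpaceι (X : AlgSp.Space S) {O : Set (Points X.obj)} (hO : IsOpen O) :
    Set.range (Points.map (openSpaceι X O hO).hom) = O := range_openSubι X.obj

theorem isOpen_range_of_openImmersion {F G : Sp S} (hF : IsAlgSpace F) {j : F ⟶ G}
    (hj : RepWith @IsOpenImmersion j) : IsOpen (Set.range (Points.map j)) :=
  (isOpenMap_map_of_isEtaleMor hF (isEtaleMor_of_openImmersion hj)).isOpen_range

theorem isCompact_range_of_qc {F G : Sp S} (hF : IsQuasiCompactSp F) (j : F ⟶ G) :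
    IsCompact (Set.range (Points.map j)) := by
  haveI := compactSpace_points_of_isQuasiCompactSp hF
  exact isCompact_range (Points.continuous_map j)

theorem isQuasiCompactSp_of_isCompact_range {F G : Sp S} (hF : IsAlgSpace F) {j : F ⟶ G}
    (hj : RepWith @IsOpenImmersion j) (h : IsCompact (Set.range (Points.map j))) : IsQuasiCompactSp F := by
  haveI := mono_of_openImmersion hj
  refine isQuasiCompactSp_of_compactSpace hF ⟨?_⟩
  rw [(IsOpenEmbedding.of_continuous_injective_isOpenMap (Points.continuous_map j) (injective_map_of_mono j)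
    (isOpenMap_map_of_isEtaleMor hF (isEtaleMor_of_openImmersion hj))).toIsEmbedding.isCompact_iff,
    Set.image_univ]
  exact h

/-- A map from a scheme with image in an open subspace lifts, and stays étale. -/
theorem exists_lift_open {F G : Sp S} {j : F ⟶ G} (hj : RepWith @IsOpenImmersion j) {V : Over S}
    (g : (yon S).obj V ⟶ G) (h : Set.range (Points.ofPt g) ⊆ Set.range (Points.map j)) :
    ∃ l : (yon S).obj V ⟶ F, l ≫ j = g ∧
      ∀ {P : MorphismProperty Scheme.{u}}, RepWith P g → RepWith P l := by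
  obtain ⟨l, hl⟩ := (exists_factor_iff hj g).2 (by rwa [← range_ofPt])
  haveI := mono_of_openImmersion hj
  exact ⟨l, hl, fun hg => repWith_of_comp_mono (by rw [hl]; exact hg)⟩

/-- The step of the induction over open subspaces. -/
theorem exists_step {X W₁ W₂ : AlgSp.Space S} (j₁ : W₁ ⟶ X) (j₂ : W₂ ⟶ X)
    (hj₁ : RepWith @IsOpenImmersion j₁.hom) (hj₂ : RepWith @IsOpenImmersion j₂.hom) {V : Over S}
    (g : (yon S).obj V ⟶ X.obj) (hg : RepWith @Etale g)
    (hu : Set.range (Points.map j₁.hom) ∪ Set.range (Points.ofPt g) = Set.range (Points.map j₂.hom))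
    (hinj : InjOver g (Set.range (Points.map j₁.hom))ᶜ) :
    ∃ (k : W₁ ⟶ W₂) (f : (⟨(yon S).obj V, IsAlgSpace.yon_obj V⟩ : AlgSp.Space S) ⟶ W₂),
      k ≫ j₂ = j₁ ∧ f.hom ≫ j₂.hom = g ∧ IsElemDistSq k.hom f.hom := by
  haveI := mono_of_openImmersion hj₂
  obtain ⟨k, hk⟩ := (exists_factor_iff hj₂ j₁.hom).2 (hu ▸ Set.subset_union_left)
  obtain ⟨f, hf, hfP⟩ := exists_lift_open hj₂ g (hu ▸ Set.subset_union_right)
  refine ⟨ObjectProperty.homMk k, ObjectProperty.homMk f, ObjectProperty.hom_ext _ hk, hf, ?_⟩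
  have hko : RepWith @IsOpenImmersion k := repWith_of_comp_mono (by rw [hk]; exact hj₁)
  have hfe : RepWith @Etale f := hfP hg
  obtain ⟨T, i, -, hi⟩ := AlgSpRegLib.exists_isRedInduced W₂.property (Set.range (Points.map k))ᶜ
    (isOpen_range_of_openImmersion W₁.property hko).isClosed_compl
  refine ⟨hko, isEtaleMor_of_repWith hfe, T, pullback i f, i, pullback.fst i f, pullback.snd i f, hi,
    IsPullback.of_hasPullback i f, ?_⟩
  have hkey : ∀ y : Points W₂.obj, y ∈ (Set.range (Points.map k))ᶜ →
      Points.map j₂.hom y ∉ Set.range (Points.map j₁.hom) := by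
    rintro y hy ⟨z, hz⟩
    exact hy ⟨z, injective_map_of_mono j₂.hom (by rw [← Points.map_comp, hk, hz])⟩
  refine isIso_fst_of_injOver W₂.property hi.1 hfe (Z := (Set.range (Points.map k))ᶜ) hi.2.1.subset
    (InjOver.mono (InjOver.of_comp (j := j₂.hom) (Z := (Set.range (Points.map j₁.hom))ᶜ) (by rw [hf]; exact hinj))
      hkey) ?_ (IsPullback.of_hasPullback i f)
  rw [hi.2.1]
  intro y hy
  rcases hu.symm.subset ⟨y, rfl⟩ with h | ⟨v, hv⟩
  · exact absurd h (hkey y hy)
  · exact ⟨v, injective_map_of_mono j₂.hom (by rw [Points.map_ofPt, hf, hv])⟩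

/-- The relation of an affine chart of a quasi-separated space is quasi-compact. -/
theorem compactSpace_rel [QuasiSeparatedSpace ↥S] {X : Sp S} (hqs : IsQuasiSeparatedSp X) {U R : Over S}
    [IsAffine U.left] {a : (yon S).obj U ⟶ X} {t s : R ⟶ U}
    (sq : IsPullback ((yon S).map t) ((yon S).map s) a a) : CompactSpace R.left := by
  have hprod := isAlgSpace_prod (IsAlgSpace.yon_obj (S := S) U) (IsAlgSpace.yon_obj U)
  have hR : IsQuasiCompactSp ((yon S).obj R) :=
    isQuasiCompactMor_of_repWith (IsAlgSpace.yon_obj R) hprod (repWith_of_isPullback (isPullback_diag_prod sq) hqs)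
      hprod (isQuasiCompactSp_prod_yon U U) (𝟙 _) (𝟙 _) _ IsPullback.of_id_fst
  haveI := compactSpace_points_of_isQuasiCompactSp hR
  exact (Points.schemeHomeo R).symm.compactSpace

/-- The strata of a quasi-compact relation are bounded. -/
theorem exists_strata_empty {X : Sp S} {U R : Over S} [IsAffine U.left] {a : (yon S).obj U ⟶ X} {t s : R ⟶ U}
    (sq : IsPullback ((yon S).map t) ((yon S).map s) a a) (ha : RepWith @Etale a) [CompactSpace R.left] :
    ∃ n, strata a t (n + 1) = ∅ := by
  haveI : Etale t.left := etale_left (repWith_of_isPullback sq.flip ha)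
  haveI := SpectralQuot.isSeparated_t sq
  haveI : QuasiCompact t.left := quasiCompact_of_compactSpace _
  haveI := locallyQuasiFinite_of_etale t.left
  let A : ℕ → Set U.left := fun p => {u | SpectralQuot.AtLeast t.left p u}
  have hcl : ∀ p, IsClosed[constructibleTopology U.left] (A p) := fun p =>
    (Groth.Agent.ProConsLib.isClopen_cons_of_isConstructible
      ((SpectralQuot.isCompact_atLeast t.left p).isConstructible (SpectralQuot.isOpen_atLeast t.left p))).1
  have hne : (Set.univ : Set U.left) ∩ ⋂ p, A p = ∅ := by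
    refine Set.eq_empty_of_forall_notMem fun u hu => ?_
    obtain ⟨p, hp⟩ := SpectralQuot.exists_not_atLeast t.left u (t.left.finite_preimage_singleton u)
    exact hp (Set.mem_iInter.1 hu.2 p)
  obtain ⟨F, hF⟩ := @IsCompact.elim_finite_subfamily_closed U.left (constructibleTopology U.left) Set.univ ℕ
    (Groth.Agent.ProConsLib.isCompact_cons_of_isClosed (@isClosed_univ _ (constructibleTopology U.left))) A hcl hne
  refine ⟨F.sup id, Set.eq_empty_of_forall_notMem ?_⟩
  intro _ hx
  obtain ⟨u, hu, rfl⟩ := hx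
  refine (Set.eq_empty_iff_forall_notMem.1 hF u) ⟨trivial, Set.mem_iInter₂.2 fun p hp => ?_⟩
  exact (mem_strata_iff sq ha u).1 (strata_mono (Nat.le_succ_of_le (Finset.le_sup (f := id) hp)) ⟨u, hu, rfl⟩)

/-- The filtration of a space by the strata of an affine chart. -/
theorem exists_filtration (X : AlgSp.Space S) {U R : Over S} [IsAffine U.left] {a : (yon S).obj U ⟶ X.obj}
    {t s : R ⟶ U} (sq : IsPullback ((yon S).map t) ((yon S).map s) a a) (ha : RepWith @Etale a)
    (has : RepWith @Surjective a) :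
    ∃ (Uo : ℕ → AlgSp.Space S) (j : ∀ p, Uo p ⟶ X) (k : ∀ p, Uo (p + 1) ⟶ Uo p)
      (T : ℕ → AlgSp.Space S) (i : ∀ p, T p ⟶ Uo p),
      (∀ p, RepWith @IsOpenImmersion (j p).hom) ∧ (∀ p, k p ≫ j p = j (p + 1)) ∧ IsIso (j 1) ∧
      (∀ p, Set.range (Points.map (j p).hom) = strata a t p) ∧
      (∀ p, IsRedInduced (Set.range (Points.map (k p).hom))ᶜ (i p).hom) ∧
      (∀ p, 1 ≤ p → ∃ (V : Over S) (f : (yon S).obj V ⟶ (Uo p).obj), V.left.IsSeparated ∧
        (CompactSpace R.left → CompactSpace V.left) ∧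
        RepWith @Etale f ∧ RepWith @Surjective f ∧
        ∀ (P : Sp S) (fst : P ⟶ (T p).obj) (snd : P ⟶ (yon S).obj V),
          IsPullback fst snd (i p).hom f → IsIso fst) := by
  let Uo : ℕ → AlgSp.Space S := fun p => openSpace X (strata a t p) (isOpen_strata sq ha p)
  let j : ∀ p, Uo p ⟶ X := fun p => openSpaceι X (strata a t p) (isOpen_strata sq ha p)
  have hj : ∀ p, RepWith @IsOpenImmersion (j p).hom := fun p => repWith_openSpaceι X _
  have hr : ∀ p, Set.range (Points.map (j p).hom) = strata a t p := fun p => range_openSpaceι X _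
  choose k₀ hk₀ using fun p => (exists_factor_iff (hj p) (j (p + 1)).hom).2
    (by rw [hr, hr]; exact strata_succ_subset p)
  let k : ∀ p, Uo (p + 1) ⟶ Uo p := fun p => ObjectProperty.homMk (k₀ p)
  have hk : ∀ p, k p ≫ j p = j (p + 1) := fun p => ObjectProperty.hom_ext _ (hk₀ p)
  choose T₀ i₀ hT hi using fun p => AlgSpRegLib.exists_isRedInduced (Uo p).property (Set.range (Points.map (k₀ p)))ᶜ
    (by
      haveI := mono_of_openImmersion (hj p)
      exact (isOpen_range_of_openImmersion (Uo (p + 1)).property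
        (repWith_of_comp_mono (by rw [hk₀ p]; exact hj (p + 1)))).isClosed_compl)
  let T : ℕ → AlgSp.Space S := fun p => ⟨T₀ p, hT p⟩
  let i : ∀ p, T p ⟶ Uo p := fun p => ObjectProperty.homMk (i₀ p)
  refine ⟨Uo, j, k, T, i, hj, hk, ?_, hr, hi, fun p hp => ?_⟩
  · haveI : IsIso (j 1).hom := isIso_of_openImmersion_surjective (hj 1)
      (Set.range_eq_univ.1 (by rw [hr, strata_one sq has]))
    haveI : IsIso ((ObjectProperty.ι _).map (j 1)) := ‹IsIso (j 1).hom›
    exact isIso_of_reflects_iso (j 1) (ObjectProperty.ι _)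
  · obtain ⟨n, rfl⟩ : ∃ n, p = n + 1 := ⟨p - 1, by omega⟩
    obtain ⟨M, g, hsep, hg, hrg, hinj, hc⟩ := exists_stratum_chart sq ha X.property n
    obtain ⟨f, hf, hfP⟩ := exists_lift_open (hj (n + 1)) g (by rw [hrg, hr])
    haveI := mono_of_openImmersion (hj (n + 1))
    have hsurj : Function.Surjective (Points.ofPt f) := fun y => by
      obtain ⟨v, hv⟩ := (hrg.trans (hr (n + 1)).symm).symm.subset ⟨y, rfl⟩
      exact ⟨v, injective_map_of_mono (j (n + 1)).hom (by rw [Points.map_ofPt, hf, hv])⟩
    refine ⟨M, f, hsep, hc, hfP hg, (repWith_surjective_iff (hfP hg).rep).2 fun y => ?_, fun P fst snd sqP => ?_⟩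
    · have h' : y ∈ Set.range (Points.map f) := by rw [← range_ofPt]; exact hsurj y
      exact h'
    · refine isIso_fst_of_injOver (Uo (n + 1)).property (hi (n + 1)).1 (hfP hg)
        (Z := (Set.range (Points.map (k₀ (n + 1))))ᶜ) (hi (n + 1)).2.1.subset
        (InjOver.mono (InjOver.of_comp (j := (j (n + 1)).hom) (Z := (strata a t (n + 2))ᶜ) (by rw [hf]; exact hinj))
          fun y hy hy' => ?_)
        (fun y _ => hsurj y) sqP
      obtain ⟨z, hz⟩ := (hr (n + 2)).symm.subset hy'
      exact hy ⟨z, injective_map_of_mono (j (n + 1)).hom (by rw [← Points.map_comp, hk₀, hz])⟩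

end FiltLib
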