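import Groth.Agent.FiltLib.Tuples
import Groth.Agent.AlgSpLib.Bootstrap
import Groth.Agent.QuotRepLib.KernelPair
import Groth.Agent.S0411
import Groth.Agent.S10212

/-! The quotient of the scheme of distinct tuples by the symmetric group. -/

set_option autoImplicit false
set_option backward.isDefEq.respectTransparency false
set_option backward.isDefEq.respectTransparency.types false

universe u

open CategoryTheory CategoryTheory.Limits AlgebraicGeometry Opposite AlgSp AlgSpLib Topology TopologicalSpace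

noncomputable section

namespace FiltLib

/-- The target of a universally closed surjection from a separated scheme is separated. -/
theorem isSeparated_of_universallyClosed_surjective {W Z : Scheme.{u}} (π : W ⟶ Z) [UniversallyClosed π]
    [Surjective π] [W.IsSeparated] : Z.IsSeparated := by
  refine ⟨⟨IsClosedImmersion.of_isPreimmersion _ ?_⟩⟩
  let g := terminal.from Z
  let P := pullback.map (π ≫ g) (π ≫ g) g g π π (𝟙 _) (by simp) (by simp)
  haveI : UniversallyClosed P :=
    MorphismProperty.pullback_map (P := @UniversallyClosed) ‹UniversallyClosed π› ‹UniversallyClosed π› rfl rfl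
  haveI : IsSeparated (π ≫ g) := by rw [terminal.hom_ext (π ≫ g) (terminal.from W)]; infer_instance
  have hP : pullback.diagonal (π ≫ g) ≫ P = π ≫ pullback.diagonal g := by
    apply pullback.hom_ext <;> simp [P]
  have hr : Set.range (pullback.diagonal g) = P '' Set.range (pullback.diagonal (π ≫ g)) := by
    rw [← Set.range_comp]
    ext y
    constructor
    · rintro ⟨z, rfl⟩
      obtain ⟨w, rfl⟩ := π.surjective z
      refine ⟨w, ?_⟩
      show P (pullback.diagonal (π ≫ g) w) = _
      rw [← Scheme.Hom.comp_apply, hP, Scheme.Hom.comp_apply]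
    · rintro ⟨w, rfl⟩
      refine ⟨π w, ?_⟩
      show _ = P (pullback.diagonal (π ≫ g) w)
      rw [← Scheme.Hom.comp_apply, ← hP, Scheme.Hom.comp_apply]
  rw [hr]
  exact P.isClosedMap _ (pullback.diagonal (π ≫ g)).isClosedEmbedding.isClosed_range

variable {S : Scheme.{u}} {X : Sp S} {U : Over S} {a : (yon S).obj U ⟶ X} {n : ℕ}

/-- Two tuples have the same image and, on every field point, the same underlying set. -/
def Rel (D : TupleData a n) {T : Over S} (g g' : T ⟶ D.W) : Prop :=
  (yon S).map g ≫ (yon S).map (D.h 0) ≫ a = (yon S).map g' ≫ (yon S).map (D.h 0) ≫ a ∧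
    ∀ (Ω : Type u) [Field Ω] (x : Spec (CommRingCat.of Ω) ⟶ T.left), ∃ σ : Equiv.Perm (Fin (n + 1)),
      ∀ i, x ≫ (g' ≫ D.h i).left = x ≫ (g ≫ D.h (σ i)).left

theorem rel_equivalence (D : TupleData a n) (T : Over S) :
    Equivalence (fun g g' : T ⟶ D.W => Rel D g g') where
  refl g := ⟨rfl, fun Ω _ x => ⟨1, fun i => rfl⟩⟩
  symm := fun {g g'} h => ⟨h.1.symm, fun Ω _ x => by
    obtain ⟨σ, hσ⟩ := h.2 Ω x
    exact ⟨σ.symm, fun i => by rw [hσ, Equiv.apply_symm_apply]⟩⟩
  trans := fun {g g' g''} h h' => ⟨h.1.trans h'.1, fun Ω _ x => by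
    obtain ⟨σ, hσ⟩ := h.2 Ω x
    obtain ⟨τ, hτ⟩ := h'.2 Ω x
    exact ⟨τ.trans σ, fun i => by rw [hτ, hσ]; rfl⟩⟩

theorem exists_quotient [IsAffine U.left] (ha : RepWith @Etale a) (hX : IsAlgSpace X) (D : TupleData a n) :
    ∃ (M : Over S) (m : D.W ⟶ M) (f : (yon S).obj M ⟶ X),
      (yon S).map m ≫ f = (yon S).map (D.h 0) ≫ a ∧ Etale m.left ∧ Surjective m.left ∧
      M.left.IsSeparated ∧ RepWith @Etale f ∧ (CompactSpace D.W.left → CompactSpace M.left) ∧
      (∀ (T : Over S) (g g' : T ⟶ D.W), Rel D g g' → g ≫ m = g' ≫ m) := by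
  classical
  haveI := D.sep
  haveI := D.etale 0
  let d : (yon S).obj D.W ⟶ X := (yon S).map (D.h 0) ≫ a
  have hd : RepWith @Etale d := repWith_comp
    ((repWith_yon_map_iff (P := (@Etale : MorphismProperty Scheme.{u})) (D.h 0)).2 (D.etale 0)) ha
  obtain ⟨Q, pt, ps, sq⟩ := exists_isPullback_yon d d hd.rep
  haveI : Etale pt.left := etale_left (repWith_of_isPullback sq.flip hd)
  haveI : Etale ps.left := etale_left (repWith_of_isPullback sq hd)
  haveI : IsSeparated pt.left := isSeparated_fst sq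
  have hact : ∀ σ : Equiv.Perm (Fin (n + 1)), ∃ γ : D.W ⟶ Q, γ ≫ pt = 𝟙 D.W ∧
      ∀ i, (γ ≫ ps) ≫ D.h i = D.h (σ i) := fun σ => by
    obtain ⟨act, hact⟩ := D.lift (fun i => D.h (σ i)) (fun i => (D.w (σ i)).trans (D.w (σ 0)).symm)
      fun Ω _ x => (D.distinct Ω x).comp σ.injective
    obtain ⟨γ, h₁, h₂⟩ := exists_lift sq (𝟙 D.W) act (by
      rw [CategoryTheory.Functor.map_id, Category.id_comp]
      show _ = (yon S).map act ≫ (yon S).map (D.h 0) ≫ a
      rw [← Functor.map_comp_assoc, hact, D.w])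
    exact ⟨γ, h₁, fun i => by rw [h₂, hact]⟩
  choose Γ hΓt hΓs using hact
  have hprops := fun σ => section_props pt.left (Γ σ).left (congrArg CommaMorphism.left (hΓt σ))
  haveI : ∀ σ, IsClosedImmersion (Γ σ).left := fun σ => (hprops σ).1
  haveI : ∀ σ, IsOpenImmersion (Γ σ).left := fun σ => (hprops σ).2
  let O : Q.left.Opens := ⟨⋃ σ, Set.range (Γ σ).left,
    isOpen_iUnion fun σ => (Γ σ).left.isOpenEmbedding.isOpen_range⟩
  haveI : IsClosedImmersion O.ι := IsClosedImmersion.of_isPreimmersion _ (by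
    rw [Scheme.Opens.range_ι]
    exact isClosed_iUnion_of_finite fun σ => (Γ σ).left.isClosedEmbedding.isClosed_range)
  let R : Over S := Over.mk (O.ι ≫ Q.hom)
  let j : R ⟶ Q := Over.homMk O.ι rfl
  haveI : Mono j := (Over.forget S).mono_of_mono_map (inferInstanceAs (Mono O.ι))
  let t : R ⟶ D.W := j ≫ pt
  let s : R ⟶ D.W := j ≫ ps
  have hkey : ∀ (T : Over S) (g g' : T ⟶ D.W), (∃ r : T ⟶ R, r ≫ t = g ∧ r ≫ s = g') ↔ Rel D g g' := by
    intro T g g'
    constructor
    · rintro ⟨r, rfl, rfl⟩
      refine ⟨?_, fun Ω _ x => ?_⟩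
      · simp only [t, s, Functor.map_comp, Category.assoc]
        exact congrArg ((yon S).map r ≫ (yon S).map j ≫ ·) sq.w
      · have hmem : (x ≫ (r ≫ j).left) (IsLocalRing.closedPoint Ω) ∈ O := by
          show (x ≫ r.left ≫ O.ι) (IsLocalRing.closedPoint Ω) ∈ O
          rw [← Category.assoc, Scheme.Hom.comp_apply]
          exact ((x ≫ r.left) (IsLocalRing.closedPoint Ω)).2
        obtain ⟨σ, hσ⟩ := Set.mem_iUnion.mp hmem
        refine ⟨σ, fun i => ?_⟩
        have hsub : Set.range (x ≫ (r ≫ j).left) ⊆ Set.range (Γ σ).left := by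
          rintro _ ⟨v, rfl⟩
          rwa [Subsingleton.elim (α := PrimeSpectrum Ω) v (IsLocalRing.closedPoint Ω)]
        have e := IsOpenImmersion.lift_fac (Γ σ).left _ hsub
        set k := IsOpenImmersion.lift (Γ σ).left _ hsub
        have h₁ : (Γ σ).left ≫ pt.left = 𝟙 _ := congrArg CommaMorphism.left (hΓt σ)
        have h₂ : ((Γ σ).left ≫ ps.left) ≫ (D.h i).left = (D.h (σ i)).left :=
          congrArg CommaMorphism.left (hΓs σ i)
        have e1 : k = x ≫ (r ≫ t).left := by
          have := congrArg (· ≫ pt.left) e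
          simp only [Category.assoc, h₁, Category.comp_id] at this
          rw [this]; simp [t]
        calc x ≫ ((r ≫ s) ≫ D.h i).left = (x ≫ (r ≫ j).left) ≫ ps.left ≫ (D.h i).left := by simp [s]
          _ = k ≫ ((Γ σ).left ≫ ps.left) ≫ (D.h i).left := by rw [← e]; simp only [Category.assoc]
          _ = _ := by rw [h₂, e1]; simp
    · rintro ⟨hw, hperm⟩
      obtain ⟨l, hl₁, hl₂⟩ := exists_lift sq g g' hw
      have hl : Set.range l.left ⊆ Set.range O.ι := by
        rintro _ ⟨z, rfl⟩
        rw [Scheme.Opens.range_ι]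
        let x := T.left.fromSpecResidueField z
        have hx : ∀ v, x v = z := fun v => Scheme.fromSpecResidueField_apply _ v
        obtain ⟨σ, hσ⟩ := hperm _ x
        let T' : Over S := Over.mk (x ≫ T.hom)
        let x' : T' ⟶ T := Over.homMk x rfl
        have e1 : (x' ≫ g) ≫ Γ σ ≫ ps = x' ≫ g' := D.ext fun i => by
          rw [show ((x' ≫ g) ≫ Γ σ ≫ ps) ≫ D.h i = (x' ≫ g) ≫ (Γ σ ≫ ps) ≫ D.h i by simp only [Category.assoc],
            hΓs, Category.assoc, Category.assoc]
          exact Over.OverMorphism.ext (hσ i).symm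
        have e : (x' ≫ g) ≫ Γ σ = x' ≫ l := ext_of_isPullback sq
          (by rw [Category.assoc, hΓt, Category.comp_id, Category.assoc, hl₁])
          (by rw [Category.assoc, e1, Category.assoc, hl₂])
        refine Set.mem_iUnion.mpr ⟨σ, (x ≫ g.left) (IsLocalRing.closedPoint _), ?_⟩
        have e' : (x ≫ g.left) ≫ (Γ σ).left = x ≫ l.left := congrArg CommaMorphism.left e
        rw [← Scheme.Hom.comp_apply, e', Scheme.Hom.comp_apply, hx]
      let r : T ⟶ R := Over.homMk (IsOpenImmersion.lift O.ι l.left hl) (by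
        show IsOpenImmersion.lift O.ι l.left hl ≫ O.ι ≫ Q.hom = _
        rw [IsOpenImmersion.lift_fac_assoc, Over.w l])
      have hr : r ≫ j = l := Over.OverMorphism.ext (IsOpenImmersion.lift_fac _ _ _)
      exact ⟨r, by rw [show r ≫ t = (r ≫ j) ≫ pt from (Category.assoc _ _ _).symm, hr, hl₁],
        by rw [show r ≫ s = (r ≫ j) ≫ ps from (Category.assoc _ _ _).symm, hr, hl₂]⟩
  have heqv : IsEqvRel s t := by
    refine ⟨fun T r r' h₁ h₂ => ?_, fun T => ?_⟩
    · rw [← cancel_mono j]
      exact ext_of_isPullback sq (by simpa [t] using h₁) (by simpa [s] using h₂)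
    · have : (fun g g' : T ⟶ D.W => ∃ r : T ⟶ R, r ≫ t = g ∧ r ≫ s = g') = fun g g' => Rel D g g' :=
        funext fun g => funext fun g' => propext (hkey T g g')
      rw [this]
      exact rel_equivalence D T
  haveI : Etale t.left := inferInstanceAs (Etale (O.ι ≫ pt.left))
  haveI : Etale s.left := inferInstanceAs (Etale (O.ι ≫ ps.left))
  haveI : IsSeparated t.left := inferInstanceAs (IsSeparated (O.ι ≫ pt.left))
  haveI : UniversallyClosed t.left := by
    have hsub : ∀ σ, Set.range (Γ σ).left ⊆ Set.range O.ι := fun σ => by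
      rw [Scheme.Opens.range_ι]; exact Set.subset_iUnion (fun σ => Set.range (Γ σ).left) σ
    refine SpectralQuot.universallyClosed_of_sections t.left
      (fun σ => IsOpenImmersion.lift O.ι (Γ σ).left (hsub σ)) (fun σ => ?_) fun q => ?_
    · show IsOpenImmersion.lift O.ι (Γ σ).left (hsub σ) ≫ O.ι ≫ pt.left = _
      rw [IsOpenImmersion.lift_fac_assoc]
      exact congrArg CommaMorphism.left (hΓt σ)
    · obtain ⟨σ, w, hw⟩ := Set.mem_iUnion.mp (show O.ι q ∈ O from q.2)
      refine ⟨σ, w, O.ι.isOpenEmbedding.injective ?_⟩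
      show (IsOpenImmersion.lift O.ι (Γ σ).left (hsub σ) ≫ O.ι) w = O.ι q
      rw [IsOpenImmersion.lift_fac]
      exact hw
  haveI : IsFinite t.left := by
    haveI : IsProper t.left := { }
    haveI := locallyQuasiFinite_of_etale t.left
    exact IsFinite.of_isProper_of_locallyQuasiFinite t.left
  haveI : IsFinite s.left := by
    obtain ⟨e, he, hes⟩ := Groth.Agent.QuotRep.exists_inverse_iso heqv
    haveI := he
    rw [show s.left = inv e.left ≫ t.left by rw [← hes, IsIso.inv_hom_id_assoc]]
    infer_instance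
  have het : IsEtaleEqvRel s t := ⟨heqv, inferInstance, inferInstance⟩
  have hsqq := isPullback_qπ s t heqv
  obtain ⟨M, ⟨e⟩⟩ := SpectralQuot.isRepSh_of_relation hsqq fun w => by
    haveI := locallyQuasiFinite_of_etale (D.h 0).left
    haveI := D.sep
    haveI := locallyQuasiFinite_of_etale s.left
    obtain ⟨V, hV, hVw⟩ := Groth.Agent.S0411.result (D.h 0).left
      ((s.left.finite_preimage_singleton w).image t.left).toFinset
    exact ⟨V, hV, fun r hr => hVw _ ((Set.Finite.mem_toFinset _).2 ⟨r, hr, rfl⟩)⟩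
  obtain ⟨m, hm⟩ := (yon S).map_surjective (qπ s t ≫ e.inv)
  have hpres := isPresentation_qπ s t het
  haveI : Etale m.left := etale_left (by
    rw [hm]; exact repWith_comp hpres.etale (repWith_of_isIso e.inv))
  haveI : Surjective m.left := surjective_left (by
    rw [hm]; exact repWith_comp hpres.surjective (repWith_of_isIso e.inv))
  have hrel : ∀ (T : Over S) (g g' : T ⟶ D.W), Rel D g g' → g ≫ m = g' ≫ m := fun T g g' h => by
    obtain ⟨r, rfl, rfl⟩ := (hkey T g g').2 h
    apply (yon S).map_injective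
    rw [Functor.map_comp (yon S) (r ≫ t) m, Functor.map_comp (yon S) (r ≫ s) m, hm, Functor.map_comp (yon S) r t,
      Functor.map_comp (yon S) r s, Category.assoc, Category.assoc, reassoc_of% hsqq.w]
  haveI : UniversallyClosed m.left := by
    have sqm : IsPullback ((yon S).map t) ((yon S).map s) ((yon S).map m) ((yon S).map m) := by
      rw [hm]
      refine isPullback_of_forall_existsUnique (by rw [reassoc_of% hsqq.w]) fun T b c h => ?_
      rw [← Category.assoc, ← Category.assoc, cancel_mono] at h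
      exact ⟨hsqq.lift b c h, ⟨hsqq.lift_fst _ _ _, hsqq.lift_snd _ _ _⟩,
        fun g hg => hsqq.hom_ext (hg.1.trans (hsqq.lift_fst _ _ _).symm) (hg.2.trans (hsqq.lift_snd _ _ _).symm)⟩
    have sqm' : IsPullback t.left s.left m.left m.left :=
      (IsPullback.of_map (yon S) (hrel R t s ((hkey R t s).1 ⟨𝟙 R, Category.id_comp _, Category.id_comp _⟩))
        sqm).map (Over.forget S)
    exact MorphismProperty.of_isPullback_of_descendsAlong (P := @UniversallyClosed)
      (Q := @Surjective ⊓ @Flat ⊓ @LocallyOfFinitePresentation) sqm'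
      ⟨⟨inferInstance, inferInstance⟩, inferInstance⟩ ‹UniversallyClosed t.left›
  have hts : (yon S).map t ≫ d = (yon S).map s ≫ d := by
    simp only [t, s, Functor.map_comp, Category.assoc]
    exact congrArg ((yon S).map j ≫ ·) sq.w
  obtain ⟨y, hy⟩ := exists_desc (qπ s t) d fun T b b' h => by
    rw [← hsqq.lift_fst b b' h, Category.assoc, hts, ← Category.assoc, hsqq.lift_snd b b' h]
  have hf : (yon S).map m ≫ e.hom ≫ y = d := by rw [hm, Category.assoc, Iso.inv_hom_id_assoc, hy]
  refine ⟨M, m, e.hom ≫ y, hf, inferInstance, inferInstance,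
    isSeparated_of_universallyClosed_surjective m.left, ?_, fun hW => ?_, hrel⟩
  · exact Groth.Agent.S10212.result ⟨X, hX⟩ m (e.hom ≫ y) (by rw [hf]; exact hd)
  · exact ⟨(Set.range_eq_univ.2 m.left.surjective) ▸ isCompact_range m.left.continuous⟩

end FiltLib
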