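import Groth.Agent.FiltLib.Quot
import Groth.Agent.AlgSpLib.MorPack
import Groth.Agent.AlgSpRegLib.CutByApps

/-! Strata of an algebraic space by the number of geometric points in the fibres of an affine chart. -/

set_option autoImplicit false
set_option backward.isDefEq.respectTransparency false
set_option backward.isDefEq.respectTransparency.types false

universe u

open CategoryTheory CategoryTheory.Limits AlgebraicGeometry Opposite AlgSp AlgSpLib Topology TopologicalSpace

noncomputable section

namespace FiltLib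

variable {S : Scheme.{u}}

/-- Two geometric points of `V` with the same image in `Z` are equal. -/
def InjOver {F : Sp S} {V : Over S} (g : (yon S).obj V ⟶ F) (Z : Set (Points F)) : Prop :=
  ∀ (Ω : Type u) [Field Ω] [IsAlgClosed Ω] (str : Spec (CommRingCat.of Ω) ⟶ S) (x y : Over.mk str ⟶ V),
    (yon S).map x ≫ g = (yon S).map y ≫ g → Points.ofPt g (x.left (IsLocalRing.closedPoint Ω)) ∈ Z → x = y

theorem InjOver.mono {F : Sp S} {V : Over S} {g : (yon S).obj V ⟶ F} {Z Z' : Set (Points F)}
    (h : InjOver g Z) (hZ : Z' ⊆ Z) : InjOver g Z' := fun Ω _ _ str x y e hx => h Ω str x y e (hZ hx)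

theorem InjOver.comp {F : Sp S} {V V' : Over S} {g : (yon S).obj V ⟶ F} {Z : Set (Points F)}
    (h : InjOver g Z) (ι : V' ⟶ V) [Mono ι] : InjOver ((yon S).map ι ≫ g) Z := fun Ω _ _ str x y e hx => by
  rw [← cancel_mono ι]
  refine h Ω str _ _ (by simpa [Functor.map_comp, Category.assoc] using e) ?_
  rwa [ofPt_yon_comp] at hx

theorem range_map_ofPt_comp {F G : Sp S} {V : Over S} (g : (yon S).obj V ⟶ F) (j : F ⟶ G) :
    Set.range (Points.ofPt (g ≫ j)) = Points.map j '' Set.range (Points.ofPt g) := by
  rw [← Set.range_comp]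
  exact congrArg Set.range (funext fun x => (Points.map_ofPt g j x).symm)

theorem InjOver.of_comp {F G : Sp S} {V : Over S} {g : (yon S).obj V ⟶ F} {j : F ⟶ G} {Z : Set (Points G)}
    (h : InjOver (g ≫ j) Z) : InjOver g (Points.map j ⁻¹' Z) := fun Ω _ _ str x y e hx =>
  h Ω str x y (by rw [reassoc_of% e]) (by rw [← Points.map_ofPt]; exact hx)

/-- A factorisation through a monomorphism keeps representable properties. -/
theorem repWith_of_comp_mono {P : MorphismProperty Scheme.{u}} {E F G : Sp S} {f : E ⟶ F} {j : F ⟶ G} [Mono j]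
    (h : RepWith P (f ≫ j)) : RepWith P f :=
  repWith_of_isPullback (fst := 𝟙 E) (g := j) (f := f ≫ j)
    (IsPullback.of_horiz_isIso_mono ⟨by rw [Category.id_comp]⟩) h

/-- An étale map from a scheme, injective on geometric points over a closed subspace which it covers, becomes
an isomorphism over that subspace. -/
theorem isIso_fst_of_injOver {F T P : Sp S} (hF : IsAlgSpace F) {i : T ⟶ F} (hi : RepWith @IsClosedImmersion i)
    {V : Over S} {g : (yon S).obj V ⟶ F} (hg : RepWith @Etale g) {Z : Set (Points F)}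
    (hiZ : Set.range (Points.map i) ⊆ Z) (hinj : InjOver g Z)
    (hrange : Set.range (Points.map i) ⊆ Set.range (Points.ofPt g))
    {fst : P ⟶ T} {snd : P ⟶ (yon S).obj V} (sq : IsPullback fst snd i g) : IsIso fst := by
  have hT : IsAlgSpace T := isAlgSpace_of_representable hF i hi.rep
  have hfe : RepWith @Etale fst := repWith_of_isPullback sq.flip hg
  have hP : IsAlgSpace P := isAlgSpace_of_representable hT fst hfe.rep
  have hfi : FieldInjective fst := by
    intro K _ str b c e
    change b ≫ fst = c ≫ fst at e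
    obtain ⟨x, hx⟩ := (yon S).map_surjective (b ≫ snd)
    obtain ⟨y, hy⟩ := (yon S).map_surjective (c ≫ snd)
    let q : Spec (CommRingCat.of (AlgebraicClosure K)) ⟶ Spec (CommRingCat.of K) :=
      Spec.map (CommRingCat.ofHom (algebraMap K (AlgebraicClosure K)))
    let ψ : Over.mk (q ≫ str) ⟶ Over.mk str := Over.homMk q rfl
    have hxg : (yon S).map x ≫ g = b ≫ fst ≫ i := by rw [hx, Category.assoc, sq.w]
    have hyg : (yon S).map y ≫ g = b ≫ fst ≫ i := by rw [hy, Category.assoc, ← sq.w, reassoc_of% e]
    have h1 : ψ ≫ x = ψ ≫ y := hinj _ _ _ _ (by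
      rw [Functor.map_comp, Functor.map_comp, Category.assoc, Category.assoc, hxg, hyg]) (hiZ (by
      rw [← ofPt_yon_comp, Functor.map_comp, Category.assoc, hxg,
        show ((yon S).map ψ ≫ b ≫ fst ≫ i) = ((yon S).map ψ ≫ b ≫ fst) ≫ i by simp only [Category.assoc],
        ← Points.map_ofPt]
      exact ⟨_, rfl⟩))
    haveI : Flat q := by
      rw [HasRingHomProperty.Spec_iff (P := @Flat), CommRingCat.hom_ofHom, RingHom.flat_algebraMap_iff]
      infer_instance
    haveI : Surjective q := ⟨fun z => ⟨IsLocalRing.closedPoint (AlgebraicClosure K),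
      Subsingleton.elim (α := PrimeSpectrum K) _ _⟩⟩
    haveI : Epi q := Flat.epi_of_flat_of_surjective q
    have h2 : x = y := Over.OverMorphism.ext ((cancel_epi q).1 (congrArg CommaMorphism.left h1))
    apply sq.hom_ext
    · exact e
    · rw [← hx, ← hy, h2]
  haveI : IsIso (pullback.diagonal fst) := isIso_of_openImmersion_surjective
    (openImmersion_diagonal_of_isEtaleMor hP hT (isEtaleMor_of_repWith hfe))
    ((fieldInjective_iff_surjective_diagonal hP hT).1 hfi)
  haveI : Mono fst := (pullback.isIso_diagonal_iff fst).1 inferInstance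
  refine isIso_of_mono_etale_surjective hP hT fst (isEtaleMor_of_repWith hfe) fun z => ?_
  obtain ⟨v, hv⟩ := hrange ⟨z, rfl⟩
  obtain ⟨w, hw, -⟩ := exists_point_isPullback sq z (Points.ofPt (𝟙 ((yon S).obj V)) v) (by
    rw [Points.map_ofPt, Category.id_comp]; exact hv.symm)
  exact ⟨w, hw⟩

variable {X : Sp S} {U R : Over S} {a : (yon S).obj U ⟶ X} {t s : R ⟶ U}

/-- The open set of points with at least `p` geometric points in the fibre of the chart. -/
def strata (a : (yon S).obj U ⟶ X) (t : R ⟶ U) (p : ℕ) : Set (Points X) :=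
  Points.ofPt a '' {u | SpectralQuot.AtLeast t.left p u}

section

variable (sq : IsPullback ((yon S).map t) ((yon S).map s) a a) (ha : RepWith @Etale a)

include sq ha in
theorem mem_strata_iff {p : ℕ} (u : U.left) :
    Points.ofPt a u ∈ strata a t p ↔ SpectralQuot.AtLeast t.left p u := by
  haveI : Etale t.left := etale_left (repWith_of_isPullback sq.flip ha)
  refine ⟨?_, fun h => ⟨u, h, rfl⟩⟩
  rintro ⟨v, hv, e⟩
  obtain ⟨r, hrt, hrs⟩ := (ofPt_eq_ofPt_iff sq v u).1 e
  exact hrs ▸ SpectralQuot.atLeast_invariant sq r (hrt.symm ▸ hv)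

include sq ha in
theorem isOpen_strata [IsAffine U.left] (p : ℕ) : IsOpen (strata a t p) := by
  haveI : Etale t.left := etale_left (repWith_of_isPullback sq.flip ha)
  haveI := SpectralQuot.isSeparated_t sq
  exact isOpenMap_ofPt ha _ (SpectralQuot.isOpen_atLeast t.left p)

theorem strata_succ_subset (p : ℕ) : strata a t (p + 1) ⊆ strata a t p := by
  rintro _ ⟨u, ⟨Ω, i₁, i₂, w, g, hw, hg, hgf⟩, rfl⟩
  exact ⟨u, ⟨Ω, i₁, i₂, w, fun i => g i.castSucc, hw, hg.comp (Fin.castSucc_injective p), fun i => hgf _⟩, rfl⟩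

theorem strata_mono {p q : ℕ} (h : p ≤ q) : strata a t q ⊆ strata a t p :=
  Nat.le_induction subset_rfl (fun m _ hm => (strata_succ_subset m).trans hm) q h

include sq in
theorem strata_one (has : RepWith @Surjective a) : strata a t 1 = Set.univ := by
  refine Set.eq_univ_of_forall fun x => ?_
  obtain ⟨u, rfl⟩ := surjective_ofPt has x
  refine ⟨u, ?_, rfl⟩
  obtain ⟨e, het, -⟩ := exists_lift sq (𝟙 U) (𝟙 U) rfl
  obtain ⟨Ω, i₁, i₂, w, hw⟩ := SpectralQuot.exists_geomPoint u
  exact ⟨Ω, i₁, i₂, w, fun _ => w ≫ e.left, hw, fun i j _ => Subsingleton.elim i j, fun i => by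
    rw [Category.assoc, show e.left ≫ t.left = 𝟙 _ from congrArg CommaMorphism.left het, Category.comp_id]⟩

include sq in
theorem strata_zero (has : RepWith @Surjective a) : strata a t 0 = Set.univ :=
  Set.eq_univ_of_univ_subset ((strata_one sq has).symm.subset.trans (strata_succ_subset 0))

include sq ha in
/-- Distinct geometric points of the chart with the same image are counted. -/
theorem mem_strata_of_tuple {k : ℕ} {Ω : Type u} [Field Ω] [IsAlgClosed Ω] {str : Spec (CommRingCat.of Ω) ⟶ S}
    (z : Fin k → (Over.mk str ⟶ U)) (hz : Function.Injective z)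
    (hw : ∀ i j, (yon S).map (z i) ≫ a = (yon S).map (z j) ≫ a) (j : Fin k) :
    Points.ofPt a ((z j).left (IsLocalRing.closedPoint Ω)) ∈ strata a t k := by
  choose r hrt hrs using fun i => exists_lift sq (z j) (z i) (hw j i)
  refine (mem_strata_iff sq ha _).2 ⟨Ω, inferInstance, inferInstance, (z j).left, fun i => (r i).left, rfl,
    fun i i' e => hz ?_, fun i => congrArg CommaMorphism.left (hrt i)⟩
  rw [← hrs i, ← hrs i', show r i = r i' from Over.OverMorphism.ext e]

include sq in
/-- Counted points come from distinct geometric points of the chart with the same image. -/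
theorem exists_tuple_of_atLeast {k : ℕ} (u : U.left) (h : SpectralQuot.AtLeast t.left k u) :
    ∃ (Ω : Type u) (_ : Field Ω) (_ : IsAlgClosed Ω) (str : Spec (CommRingCat.of Ω) ⟶ S)
      (z : Fin k → (Over.mk str ⟶ U)), Function.Injective z ∧
      (∀ i j, (yon S).map (z i) ≫ a = (yon S).map (z j) ≫ a) ∧
      ∀ i, Points.ofPt a ((z i).left (IsLocalRing.closedPoint Ω)) = Points.ofPt a u := by
  obtain ⟨Ω, i₁, i₂, w, g, rfl, hg, hgf⟩ := h
  let g' : ∀ _ : Fin k, Over.mk (w ≫ U.hom) ⟶ R := fun i => Over.homMk (g i) (by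
    show g i ≫ R.hom = w ≫ U.hom
    rw [← Over.w t, ← Category.assoc, hgf])
  let w' : Over.mk (w ≫ U.hom) ⟶ U := Over.homMk w rfl
  have hgt : ∀ i, g' i ≫ t = w' := fun i => Over.OverMorphism.ext (hgf i)
  refine ⟨Ω, i₁, i₂, w ≫ U.hom, fun i => g' i ≫ s, fun i i' e => hg (congrArg CommaMorphism.left
    (ext_of_isPullback sq ((hgt i).trans (hgt i').symm) e)), fun i j => ?_, fun i => ?_⟩
  · rw [Functor.map_comp, Functor.map_comp, Category.assoc, Category.assoc, ← sq.w, ← Category.assoc,
      ← Category.assoc, ← Functor.map_comp, ← Functor.map_comp, hgt, hgt]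
  · refine ((ofPt_eq_ofPt_iff sq _ _).2 ⟨(g i) (IsLocalRing.closedPoint Ω), ?_, rfl⟩).symm
    rw [← Scheme.Hom.comp_apply, hgf]

include sq ha in
/-- The stratum chart. -/
theorem exists_stratum_chart [IsAffine U.left] (hX : IsAlgSpace X) (n : ℕ) :
    ∃ (M : Over S) (f : (yon S).obj M ⟶ X), M.left.IsSeparated ∧ RepWith @Etale f ∧
      Set.range (Points.ofPt f) = strata a t (n + 1) ∧ InjOver f (strata a t (n + 2))ᶜ ∧
      (CompactSpace R.left → CompactSpace M.left) := by
  obtain ⟨D⟩ := exists_tupleData ha n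
  obtain ⟨M, m, f, hmf, hme, hms, hsep, hf, hc, hrel⟩ := exists_quotient ha hX D
  haveI := hme; haveI := hms
  have hpt : ∀ w : D.W.left, Points.ofPt f (m.left w) = Points.ofPt a ((D.h 0).left w) := fun w => by
    rw [← ofPt_yon_comp, hmf, ofPt_yon_comp]
  refine ⟨M, f, hsep, hf, ?_, ?_, fun hR => hc (D.compact t s sq hR)⟩
  · ext p
    constructor
    · rintro ⟨z, rfl⟩
      obtain ⟨w, rfl⟩ := m.left.surjective z
      rw [hpt]
      obtain ⟨Ω, i₁, i₂, x, rfl⟩ := SpectralQuot.exists_geomPoint w
      let x' : Over.mk (x ≫ D.W.hom) ⟶ D.W := Over.homMk x rfl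
      exact mem_strata_of_tuple sq ha (fun i => x' ≫ D.h i)
        (fun i j e => D.distinct Ω x (congrArg CommaMorphism.left e))
        (fun i j => by rw [Functor.map_comp, Functor.map_comp, Category.assoc, Category.assoc, D.w i, D.w j]) 0
    · rintro ⟨u, hu, rfl⟩
      obtain ⟨Ω, i₁, i₂, str, z, hz, hzw, hzu⟩ := exists_tuple_of_atLeast sq u hu
      obtain ⟨l, hl⟩ := D.lift z (fun i => hzw i 0) fun K _ x => by
        intro i j e
        haveI : Subsingleton ↥(Over.mk str).left := inferInstanceAs (Subsingleton (PrimeSpectrum Ω))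
        haveI : IsIntegral (Over.mk str).left := inferInstanceAs (IsIntegral (Spec (CommRingCat.of Ω)))
        haveI : Flat x := inferInstance
        haveI : Surjective x := ⟨fun v => ⟨IsLocalRing.closedPoint K, Subsingleton.elim (α := PrimeSpectrum Ω) _ _⟩⟩
        haveI : Epi x := Flat.epi_of_flat_of_surjective x
        exact hz (Over.OverMorphism.ext ((cancel_epi x).1 e))
      refine ⟨m.left (l.left (IsLocalRing.closedPoint Ω)), ?_⟩
      rw [hpt, ← hzu 0, ← hl 0, Over.comp_left, Scheme.Hom.comp_apply]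
  · intro Ω _ _ str x y e hxZ
    have hlift : ∀ v : Over.mk str ⟶ M, ∃ g : Over.mk str ⟶ D.W, g ≫ m = v := fun v => by
      obtain ⟨w, hw⟩ := m.left.surjective (v.left (default : Spec (CommRingCat.of Ω)))
      obtain ⟨g, hg, -⟩ := Scheme.exists_fac_of_etale_of_isSepClosed m.left v.left w hw
      exact ⟨Over.homMk g (by
        show g ≫ D.W.hom = str
        rw [← Over.w m, ← Category.assoc, hg]; exact Over.w v), Over.OverMorphism.ext hg⟩
    obtain ⟨g, rfl⟩ := hlift x
    obtain ⟨g', rfl⟩ := hlift y
    have hd : (yon S).map g ≫ (yon S).map (D.h 0) ≫ a = (yon S).map g' ≫ (yon S).map (D.h 0) ≫ a := by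
      rw [← hmf, ← Functor.map_comp_assoc, ← Functor.map_comp_assoc, e]
    have hall : ∀ i k, (yon S).map (g' ≫ D.h i) ≫ a = (yon S).map (g ≫ D.h k) ≫ a := fun i k => by
      rw [Functor.map_comp, Functor.map_comp, Category.assoc, Category.assoc, D.w i, D.w k, hd]
    have hinj : ∀ (v : Over.mk str ⟶ D.W), Function.Injective fun i => v ≫ D.h i := fun v i j e =>
      D.distinct Ω v.left (congrArg CommaMorphism.left e)
    have hex : ∀ i, ∃ k, g ≫ D.h k = g' ≫ D.h i := fun i => by
      by_contra hne
      apply hxZ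
      have := mem_strata_of_tuple sq ha (Fin.cons (g' ≫ D.h i) fun k => g ≫ D.h k)
        (Fin.cons_injective_iff.2 ⟨hne, hinj g⟩) (fun p q => by
          induction p using Fin.cases with
          | zero => induction q using Fin.cases with
            | zero => rfl
            | succ q => simpa using hall i q
          | succ p => induction q using Fin.cases with
            | zero => simpa using (hall i p).symm
            | succ q => simpa using (hall i p).symm.trans (hall i q)) (0 : Fin (n + 1)).succ
      simp only [Fin.cons_succ, Over.comp_left, Scheme.Hom.comp_apply] at this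
      simp only [Over.comp_left, Scheme.Hom.comp_apply, hpt]
      exact this
    choose σ hσ using hex
    have hσi : Function.Injective σ := fun i j e => hinj g' (by
      show g' ≫ D.h i = g' ≫ D.h j
      rw [← hσ, e, hσ])
    refine hrel _ g g' ⟨hd, fun K _ v => ⟨Equiv.ofBijective σ (Finite.injective_iff_bijective.1 hσi), fun i => ?_⟩⟩
    show v ≫ (g' ≫ D.h i).left = v ≫ (g ≫ D.h (σ i)).left
    rw [hσ]

end

end FiltLib
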