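import Groth.Agent.SpectralQuot.SchematicOpen
import Mathlib

/-! The scheme of tuples of pairwise distinct points of a chart with the same image in a space. -/

set_option autoImplicit false
set_option backward.isDefEq.respectTransparency false
set_option backward.isDefEq.respectTransparency.types false

universe u

open CategoryTheory CategoryTheory.Limits AlgebraicGeometry Opposite AlgSp AlgSpLib Topology TopologicalSpace

noncomputable section

namespace FiltLib

variable {S : Scheme.{u}}

theorem ext_of_isPullback {X : Sp S} {U V W : Over S} {a : (yon S).obj U ⟶ X} {b : (yon S).obj V ⟶ X}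
    {p : W ⟶ U} {q : W ⟶ V} (sq : IsPullback ((yon S).map p) ((yon S).map q) a b)
    {T : Over S} {g h : T ⟶ W} (e₁ : g ≫ p = h ≫ p) (e₂ : g ≫ q = h ≫ q) : g = h :=
  (yon S).map_injective (sq.hom_ext (by rw [← Functor.map_comp, e₁, Functor.map_comp])
    (by rw [← Functor.map_comp, e₂, Functor.map_comp]))

theorem left_ext_of_isPullback {X : Sp S} {U V W : Over S} {a : (yon S).obj U ⟶ X} {b : (yon S).obj V ⟶ X}
    {p : W ⟶ U} {q : W ⟶ V} (sq : IsPullback ((yon S).map p) ((yon S).map q) a b)
    {T : Scheme.{u}} {g h : T ⟶ W.left} (e₁ : g ≫ p.left = h ≫ p.left) (e₂ : g ≫ q.left = h ≫ q.left) :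
    g = h := by
  let T' : Over S := Over.mk (g ≫ W.hom)
  let g' : T' ⟶ W := Over.homMk g rfl
  let h' : T' ⟶ W := Over.homMk h (by
    show h ≫ W.hom = g ≫ W.hom
    rw [← Over.w p, ← Category.assoc, ← Category.assoc, e₁])
  exact congrArg CommaMorphism.left
    (ext_of_isPullback sq (g := g') (h := h') (Over.OverMorphism.ext e₁) (Over.OverMorphism.ext e₂))

theorem exists_lift {X : Sp S} {U V W : Over S} {a : (yon S).obj U ⟶ X} {b : (yon S).obj V ⟶ X}
    {p : W ⟶ U} {q : W ⟶ V} (sq : IsPullback ((yon S).map p) ((yon S).map q) a b)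
    {T : Over S} (x : T ⟶ U) (y : T ⟶ V) (e : (yon S).map x ≫ a = (yon S).map y ≫ b) :
    ∃ l : T ⟶ W, l ≫ p = x ∧ l ≫ q = y := by
  obtain ⟨l, hl⟩ := (yon S).map_surjective (sq.lift _ _ e)
  exact ⟨l, (yon S).map_injective (by rw [Functor.map_comp, hl, sq.lift_fst]),
    (yon S).map_injective (by rw [Functor.map_comp, hl, sq.lift_snd])⟩

/-- The first projection of a fibre product over a space is separated if the second factor is. -/
theorem isSeparated_fst {X : Sp S} {U V W : Over S} {a : (yon S).obj U ⟶ X} {b : (yon S).obj V ⟶ X}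
    {p : W ⟶ U} {q : W ⟶ V} (sq : IsPullback ((yon S).map p) ((yon S).map q) a b)
    [V.left.IsSeparated] : IsSeparated p.left := by
  let δ : W.left ⟶ pullback U.hom V.hom := pullback.lift p.left q.left ((Over.w p).trans (Over.w q).symm)
  haveI : Mono δ := ⟨fun {T} g h e => left_ext_of_isPullback sq
    (by have e1 := congrArg (· ≫ pullback.fst U.hom V.hom) e
        simp only [δ, Category.assoc, pullback.lift_fst] at e1; exact e1)
    (by have e1 := congrArg (· ≫ pullback.snd U.hom V.hom) e
        simp only [δ, Category.assoc, pullback.lift_snd] at e1; exact e1)⟩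
  have e : p.left = δ ≫ pullback.fst U.hom V.hom := (pullback.lift_fst _ _ _).symm
  rw [e]; infer_instance

/-- A section of a separated étale morphism is clopen. -/
theorem section_props {Q P : Scheme.{u}} (q : Q ⟶ P) [IsSeparated q] [Etale q] (Γ : P ⟶ Q)
    (h : Γ ≫ q = 𝟙 P) : IsClosedImmersion Γ ∧ IsOpenImmersion Γ := by
  haveI : IsClosedImmersion (Γ ≫ q) := by rw [h]; infer_instance
  haveI : IsClosedImmersion Γ := IsClosedImmersion.of_comp Γ q
  haveI : Etale (Γ ≫ q) := by rw [h]; infer_instance
  haveI : Etale Γ := Etale.of_comp Γ q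
  exact ⟨inferInstance, IsOpenImmersion.of_flat_of_mono _⟩

theorem isSeparated_of_hom {Q P : Scheme.{u}} (q : Q ⟶ P) [IsSeparated q] [P.IsSeparated] : Q.IsSeparated :=
  ⟨by rw [terminal.hom_ext (terminal.from Q) (q ≫ terminal.from P)]; infer_instance⟩

/-- Tuples of `n + 1` pairwise distinct points of the chart with the same image. -/
structure TupleData {X : Sp S} {U : Over S} (a : (yon S).obj U ⟶ X) (n : ℕ) where
  W : Over S
  h : Fin (n + 1) → (W ⟶ U)
  w : ∀ i, (yon S).map (h i) ≫ a = (yon S).map (h 0) ≫ a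
  distinct : ∀ (Ω : Type u) [Field Ω] (x : Spec (CommRingCat.of Ω) ⟶ W.left),
    Function.Injective fun i => x ≫ (h i).left
  ext : ∀ {T : Over S} {g g' : T ⟶ W}, (∀ i, g ≫ h i = g' ≫ h i) → g = g'
  lift : ∀ {T : Over S} (g : Fin (n + 1) → (T ⟶ U)),
    (∀ i, (yon S).map (g i) ≫ a = (yon S).map (g 0) ≫ a) →
    (∀ (Ω : Type u) [Field Ω] (x : Spec (CommRingCat.of Ω) ⟶ T.left),
      Function.Injective fun i => x ≫ (g i).left) →
    ∃ l : T ⟶ W, ∀ i, l ≫ h i = g i
  etale : ∀ i, Etale (h i).left
  sep : W.left.IsSeparated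
  compact : ∀ {R : Over S} (t s : R ⟶ U), IsPullback ((yon S).map t) ((yon S).map s) a a →
    CompactSpace R.left → CompactSpace W.left

variable {X : Sp S} {U : Over S} [IsAffine U.left] {a : (yon S).obj U ⟶ X}

theorem exists_tupleData (ha : RepWith @Etale a) (n : ℕ) : Nonempty (TupleData a n) := by
  induction n with
  | zero =>
    exact ⟨{
      W := U
      h := fun _ => 𝟙 U
      w := fun _ => rfl
      distinct := fun Ω _ x i j _ => Subsingleton.elim (α := Fin 1) i j
      ext := fun {T g g'} h => by simpa using h 0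
      lift := fun {T} g _ _ => ⟨g 0, fun i => by rw [Category.comp_id, Subsingleton.elim (α := Fin 1) i 0]⟩
      etale := fun _ => inferInstanceAs (Etale (𝟙 U.left))
      sep := inferInstance
      compact := fun _ _ _ _ => inferInstance }⟩
  | succ n ih =>
    obtain ⟨D⟩ := ih
    haveI := D.sep
    haveI := D.etale 0
    let d : (yon S).obj D.W ⟶ X := (yon S).map (D.h 0) ≫ a
    have hd : RepWith @Etale d := repWith_comp
      ((repWith_yon_map_iff (P := (@Etale : MorphismProperty Scheme.{u})) (D.h 0)).2 (D.etale 0)) ha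
    obtain ⟨Q, q₂, q₁, sq'⟩ := exists_isPullback_yon a d ha.rep
    have sq : IsPullback ((yon S).map q₁) ((yon S).map q₂) d a := sq'.flip
    haveI : Etale q₁.left := etale_left (repWith_of_isPullback sq' ha)
    haveI : Etale q₂.left := etale_left (repWith_of_isPullback sq hd)
    haveI : IsSeparated q₁.left := isSeparated_fst sq
    have hΓex : ∀ i, ∃ γ : D.W ⟶ Q, γ ≫ q₁ = 𝟙 D.W ∧ γ ≫ q₂ = D.h i := fun i =>
      exists_lift sq (𝟙 D.W) (D.h i) (by
        rw [CategoryTheory.Functor.map_id, Category.id_comp, D.w i])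
    choose Γ hΓ₁ hΓ₂ using hΓex
    have hprops := fun i => section_props q₁.left (Γ i).left (congrArg CommaMorphism.left (hΓ₁ i))
    haveI : ∀ i, IsClosedImmersion (Γ i).left := fun i => (hprops i).1
    haveI : ∀ i, IsOpenImmersion (Γ i).left := fun i => (hprops i).2
    let O : Q.left.Opens := ⟨(⋃ i, Set.range (Γ i).left)ᶜ,
      (isClosed_iUnion_of_finite fun i => (Γ i).left.isClosedEmbedding.isClosed_range).isOpen_compl⟩
    haveI : IsClosedImmersion O.ι := IsClosedImmersion.of_isPreimmersion _ (by
      rw [Scheme.Opens.range_ι]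
      exact (isOpen_iUnion fun i => (Γ i).left.isOpenEmbedding.isOpen_range).isClosed_compl)
    let W : Over S := Over.mk (O.ι ≫ Q.hom)
    let j : W ⟶ Q := Over.homMk O.ι rfl
    haveI : Mono j := (Over.forget S).mono_of_mono_map (inferInstanceAs (Mono O.ι))
    let h : Fin (n + 2) → (W ⟶ U) := Fin.cons (j ≫ q₂) fun i => (j ≫ q₁) ≫ D.h i
    have hw : ∀ i, (yon S).map (h i) ≫ a = (yon S).map (j ≫ q₂) ≫ a := fun i => by
      induction i using Fin.cases with
      | zero => rfl
      | succ i =>
        show (yon S).map ((j ≫ q₁) ≫ D.h i) ≫ a = _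
        rw [Functor.map_comp, Functor.map_comp, Functor.map_comp, Category.assoc, Category.assoc,
          D.w i, Category.assoc]
        exact congrArg ((yon S).map j ≫ ·) sq.w
    refine ⟨{ W := W, h := h, w := fun i => (hw i).trans (hw 0).symm, distinct := ?_, ext := ?_, lift := ?_,
              etale := ?_, sep := ?_, compact := ?_ }⟩
    · intro Ω _ x
      have hc : (fun i => x ≫ (h i).left) = Fin.cons (α := fun _ : Fin (n + 2) => Spec (CommRingCat.of Ω) ⟶ U.left)
          (x ≫ O.ι ≫ q₂.left) (fun i => (x ≫ O.ι ≫ q₁.left) ≫ (D.h i).left) := funext fun i => by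
        induction i using Fin.cases <;> simp [h, j]
      rw [hc]
      refine Fin.cons_injective_iff.mpr ⟨?_, D.distinct Ω (x ≫ O.ι ≫ q₁.left)⟩
      rintro ⟨i, hi⟩
      have hγ₁ : (Γ i).left ≫ q₁.left = 𝟙 _ := congrArg CommaMorphism.left (hΓ₁ i)
      have hγ₂ : (Γ i).left ≫ q₂.left = (D.h i).left := congrArg CommaMorphism.left (hΓ₂ i)
      have e : (x ≫ O.ι ≫ q₁.left) ≫ (Γ i).left = x ≫ O.ι := by
        apply left_ext_of_isPullback sq
        · rw [Category.assoc, hγ₁, Category.comp_id, Category.assoc]
        · rw [Category.assoc, hγ₂]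
          simpa only [Category.assoc] using hi
      have h1 : O.ι (x (IsLocalRing.closedPoint Ω)) ∈ O := (x (IsLocalRing.closedPoint Ω)).2
      refine h1 (Set.mem_iUnion.mpr ⟨i, (x ≫ O.ι ≫ q₁.left) (IsLocalRing.closedPoint Ω), ?_⟩)
      rw [← Scheme.Hom.comp_apply, e, Scheme.Hom.comp_apply]
      rfl
    · intro T g g' hg
      rw [← cancel_mono j]
      refine ext_of_isPullback sq (D.ext fun i => ?_) ?_
      · simpa [h] using hg i.succ
      · simpa [h] using hg 0
    · intro T g hg hdist
      obtain ⟨l, hl⟩ := D.lift (fun i => g i.succ) (fun i => (hg i.succ).trans (hg (0 : Fin (n + 1)).succ).symm)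
        fun Ω _ x => (hdist Ω x).comp (Fin.succ_injective _)
      obtain ⟨y, hy₁, hy₂⟩ := exists_lift sq l (g 0) (by
        rw [← Category.assoc, ← Functor.map_comp, hl]; exact hg _)
      have hy : Set.range y.left ⊆ Set.range O.ι := by
        rintro _ ⟨z, rfl⟩
        rw [Scheme.Opens.range_ι]
        intro hz
        obtain ⟨i, hi⟩ := Set.mem_iUnion.mp hz
        let x := T.left.fromSpecResidueField z
        have hx : ∀ v, x v = z := fun v => Scheme.fromSpecResidueField_apply _ v
        have hsub : Set.range (x ≫ y.left) ⊆ Set.range (Γ i).left := by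
          rintro _ ⟨v, rfl⟩
          rw [Scheme.Hom.comp_apply, hx]
          exact hi
        have e := IsOpenImmersion.lift_fac (Γ i).left (x ≫ y.left) hsub
        set k := IsOpenImmersion.lift (Γ i).left (x ≫ y.left) hsub
        have hγ₁ : (Γ i).left ≫ q₁.left = 𝟙 _ := congrArg CommaMorphism.left (hΓ₁ i)
        have hγ₂ : (Γ i).left ≫ q₂.left = (D.h i).left := congrArg CommaMorphism.left (hΓ₂ i)
        have e1 : k = x ≫ l.left := by
          have := congrArg (· ≫ q₁.left) e
          simp only [Category.assoc, hγ₁, Category.comp_id] at this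
          rw [this, show y.left ≫ q₁.left = l.left from congrArg CommaMorphism.left hy₁]
        have e2 := congrArg (· ≫ q₂.left) e
        simp only [Category.assoc, hγ₂] at e2
        rw [e1, show y.left ≫ q₂.left = (g 0).left from congrArg CommaMorphism.left hy₂, Category.assoc,
          show l.left ≫ (D.h i).left = (g i.succ).left from congrArg CommaMorphism.left (hl i)] at e2
        exact Fin.succ_ne_zero i (hdist _ x e2)
      let L : T ⟶ W := Over.homMk (IsOpenImmersion.lift O.ι y.left hy) (by
        show IsOpenImmersion.lift O.ι y.left hy ≫ O.ι ≫ Q.hom = _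
        rw [IsOpenImmersion.lift_fac_assoc, Over.w y])
      have hL : L ≫ j = y := Over.OverMorphism.ext (IsOpenImmersion.lift_fac _ _ _)
      refine ⟨L, fun i => ?_⟩
      induction i using Fin.cases with
      | zero => show L ≫ j ≫ q₂ = _; rw [reassoc_of% hL, hy₂]
      | succ i => show L ≫ (j ≫ q₁) ≫ D.h i = _; rw [Category.assoc, reassoc_of% hL, reassoc_of% hy₁, hl]
    · intro i
      haveI := fun i => D.etale i
      induction i using Fin.cases with
      | zero => show Etale (O.ι ≫ q₂.left); infer_instance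
      | succ i => show Etale ((O.ι ≫ q₁.left) ≫ (D.h i).left); infer_instance
    · exact isSeparated_of_hom (O.ι ≫ q₁.left)
    · intro R t s sqR hR
      haveI := hR
      haveI := D.compact t s sqR hR
      haveI : QuasiCompact t.left := quasiCompact_of_compactSpace _
      obtain ⟨l, hl₁, hl₂⟩ := exists_lift sqR (q₁ ≫ D.h 0) q₂ (by
        rw [Functor.map_comp, Category.assoc]; exact sq.w)
      have sql : IsPullback ((yon S).map q₁) ((yon S).map l) ((yon S).map (D.h 0)) ((yon S).map t) := by
        have hsq : IsPullback ((yon S).map q₁) ((yon S).map l ≫ (yon S).map s) ((yon S).map (D.h 0) ≫ a) a := by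
          rw [← Functor.map_comp, hl₂]; exact sq
        exact IsPullback.of_bot hsq (by rw [← Functor.map_comp, ← Functor.map_comp, hl₁]) sqR
      have sql' : IsPullback q₁.left l.left (D.h 0).left t.left :=
        (IsPullback.of_map (yon S) hl₁.symm sql).map (Over.forget S)
      haveI : QuasiCompact q₁.left :=
        MorphismProperty.of_isPullback (P := @QuasiCompact) sql'.flip ‹QuasiCompact t.left›
      haveI : CompactSpace Q.left := QuasiCompact.compactSpace_of_compactSpace q₁.left
      exact QuasiCompact.compactSpace_of_compactSpace O.ι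

end FiltLib
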